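/-
Kernel checks on the words of the centralizer of a pair.
-/
import Cfsg.Agent.Lib.Spor.PairAut.Data
import Cfsg.Agent.Lib.Spor.Fi22Out.Out
import Cfsg.Agent.Lib.Spor.Fi22Thirteen.CheckChain
import Cfsg.Agent.Lib.Spor.ActCert.Search

set_option autoImplicit false
set_option maxRecDepth 100000
set_option maxHeartbeats 0

namespace CfsgLib.Spor.PairAut

open CfsgLib.Spor.Fi22 CfsgLib.Spor.ActCert

/-- The word of a transposition from a word moving the first point. -/
def trW (w : List ℕ) : List ℕ := w ++ 0 :: w.reverse

/-- The image of a word under the outer automorphism. -/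
def sW (w : List ℕ) : List ℕ := w.flatMap fun x => trW (Fi22Out.wordsR.getD x [])

/-- The image of a word under the outer element. -/
def tW (w : List ℕ) : List ℕ := uW ++ sW w ++ uW.reverse

/-- The word of the product of the pair. -/
def jW : List ℕ := 0 :: trW partnerW

/-- A word with given exponents. -/
def eltW (c : ℕ) : List ℕ := (List.range 10).flatMap fun i => if c.testBit i then eW.getD i [] else []

/-- The central element or nothing. -/
def zW (b : Bool) : List ℕ := if b then jW else []

/-- A generator index among the ten. -/
def eIdx (i : ℕ) : ℕ := if i = 0 then 0 else i + 1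

/-- A commutator bit. -/
def cBit (i k : ℕ) : Bool := (commRows.getD i 0).testBit k

/-- Equality of elements given by words. -/
noncomputable def same (a b : List ℕ) : Bool := sameW ActH.act CfsgLib.Spor.Fi22Thirteen.levs a b

/-- Inequality of elements given by words. -/
noncomputable def differ (a b : List ℕ) : Bool := diffW ActH.act CfsgLib.Spor.Fi22Thirteen.levs a b

/-- The outer element moves a common transposition within its coset. -/
noncomputable def moveAt (a : ℕ) : Bool :=
  same (tW (trW (commonW.getD a []))) (eltW (moveC.getD a 0) ++ trW (commonW.getD a []))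

/-- A common transposition normalizes. -/
noncomputable def normAt (a : ℕ) : Bool :=
  (List.range 10).all fun i =>
    same (trW (commonW.getD a []) ++ eW.getD i [] ++ trW (commonW.getD a []))
      (eltW ((normC.getD a []).getD i 0))

theorem words_ok : (∀ w ∈ eW, ∀ x ∈ w, x < 9) ∧ (∀ x ∈ uW, x < 9) ∧ (∀ x ∈ partnerW, x < 9) ∧
    (∀ w ∈ commonW, ∀ x ∈ w, x < 9) ∧ (∀ x ∈ twist.2.1, x < 9) ∧ partner < 3510 ∧ partner ≠ 0 ∧
    ActH.act.wact partnerW 0 = partner := by decide +kernel

theorem pair_ok : same (trW partnerW ++ [0]) (0 :: trW partnerW) = true ∧ differ jW [] = true ∧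
    same (eW.getD 1 []) (trW partnerW) = true ∧ same (eW.getD 0 []) [0] = true ∧
    same (tW jW) jW = true := by decide +kernel

theorem gens_ok : ((List.range 10).all fun i => same (jW ++ eW.getD i []) (eW.getD i [] ++ jW) &&
    same (eW.getD i [] ++ eW.getD i []) (zW (eSq.getD i false))) = true := by decide +kernel

theorem comm_ok : ((List.range 9).all fun i => (List.range 9).all fun k =>
    same (eW.getD (eIdx i) [] ++ eW.getD (eIdx k) [])
      (eW.getD (eIdx k) [] ++ zW (cBit i k) ++ eW.getD (eIdx i) [])) = true := by decide +kernel

theorem outer_ok : ((List.range 9).all fun k =>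
    same (tW (eW.getD (eIdx k) [])) (eW.getD (eIdx k) [] ++ zW (cBit 9 k)) &&
      (cBit k 9 == cBit 9 k)) = true ∧ cBit 9 9 = false := by decide +kernel

theorem square_ok : ((List.range 9).all fun x => same (tW (tW [x])) [x]) = true := by decide +kernel

theorem common_pts : commonPts.length = 180 ∧ ((List.range commonPts.length).all fun a =>
    Nat.beq (ActH.act.wact (commonW.getD a []) 0) (commonPts.getD a 0)) = true := by decide +kernel

theorem common_full : ((List.range 3510).all fun x =>
    !(!Nat.beq x 0 && !Nat.beq x partner && Nat.beq (ActH.act.T 0 x) x &&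
      Nat.beq (ActH.act.wact (trW partnerW) x) x) || commonPts.contains x) = true := by decide +kernel

theorem common_in : (commonPts.all fun x => Nat.blt x 3510 && !Nat.beq x 0 && !Nat.beq x partner &&
    Nat.beq (ActH.act.T 0 x) x && Nat.beq (ActH.act.wact (trW partnerW) x) x) = true := by decide +kernel

/-- The product of the witness transpositions. -/
def witW : List ℕ := trW (commonW.getD witness.1 []) ++ trW (commonW.getD witness.2.1 [])

theorem witness_ok : witness.1 < 180 ∧ witness.2.1 < 180 ∧ witness.2.2 < 10 ∧
    same (witW ++ witW ++ witW) [] = true ∧ differ witW [] = true ∧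
    differ (witW ++ eW.getD witness.2.2 []) (eW.getD witness.2.2 [] ++ witW) = true ∧
    differ (witW ++ eW.getD witness.2.2 []) (eW.getD witness.2.2 [] ++ jW ++ witW) = true := by decide +kernel

theorem twist_ok : same (twist.2.1 ++ jW ++ twist.2.1.reverse) (eltW twist.1) = true ∧
    differ (eltW twist.1) [] = true ∧ differ (eltW twist.1) jW = true ∧
    same (twist.2.1.reverse ++ jW ++ twist.2.1) (eltW twist.2.2) = true := by decide +kernel

end CfsgLib.Spor.PairAut
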