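/-
Subgroups of the automorphism group of a simple group with trivial centre, and transport of large
extraspecial subgroups.
-/
import Cfsg.Agent.Lib.Spor.Tri.PairCentral
import Cfsg.Prelude.Def_MonsterType
import Cfsg.Agent.Lib.Spor.AffineExtraspecial

set_option autoImplicit false

namespace CfsgLib.Spor.PairAut

open Subgroup

section Simple

variable {P : Type*} [Group P] [IsSimpleGroup P]

theorem mulAut_conj_injective (hc : center P = ⊥) : Function.Injective (MulAut.conj : P →* MulAut P) := by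
  rw [injective_iff_map_eq_one]
  intro p hp
  have : p ∈ center P := mem_center_iff.2 fun q => by
    have h := DFunLike.congr_fun hp q
    rw [MulAut.conj_apply, MulAut.one_apply, mul_inv_eq_iff_eq_mul] at h
    exact h.symm
  rwa [hc, mem_bot] at this

omit [IsSimpleGroup P] in
theorem aut_conj (α : MulAut P) (p : P) : α * MulAut.conj p * α⁻¹ = MulAut.conj (α p) := by
  ext q
  simp [map_mul, map_inv]

/-- A subgroup normalized by the inner automorphisms is trivial or contains them. -/
theorem eq_bot_or_inner_le (hc : center P = ⊥) (K : Subgroup (MulAut P))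
    (hK : ∀ p : P, ∀ k ∈ K, MulAut.conj p * k * (MulAut.conj p)⁻¹ ∈ K) :
    K = ⊥ ∨ (MulAut.conj : P →* MulAut P).range ≤ K := by
  haveI hN : (K.comap (MulAut.conj : P →* MulAut P)).Normal := ⟨fun n hn g => by
    rw [mem_comap, map_mul, map_mul, map_inv]
    exact hK g _ hn⟩
  rcases IsSimpleGroup.eq_bot_or_eq_top_of_normal _ hN with h | h
  · left
    rw [Subgroup.eq_bot_iff_forall]
    intro k hk
    refine MulEquiv.ext fun p => ?_
    have e1 : MulAut.conj (p * (k p)⁻¹) = MulAut.conj p * k * (MulAut.conj p)⁻¹ * k⁻¹ := by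
      rw [map_mul, map_inv, ← aut_conj k p]
      group
    have e2 : p * (k p)⁻¹ ∈ K.comap (MulAut.conj : P →* MulAut P) := by
      rw [mem_comap, e1]
      exact mul_mem (hK p k hk) (inv_mem hk)
    rw [h, mem_bot, mul_inv_eq_one] at e2
    exact e2.symm
  · right
    rintro _ ⟨p, rfl⟩
    exact (h.symm ▸ mem_top p : p ∈ K.comap (MulAut.conj : P →* MulAut P))

theorem card_inner (hc : center P = ⊥) : Nat.card (MulAut.conj : P →* MulAut P).range = Nat.card P :=
  (Nat.card_congr (MonoidHom.ofInjective (mulAut_conj_injective hc)).toEquiv).symm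

end Simple

variable {F : Type} [Field F] [Fintype F]

theorem psu4_facts (hF : Fintype.card F = 4) :
    IsSimpleGroup (Cfsg.PSU 4 F 2) ∧ center (Cfsg.PSU 4 F 2) = ⊥ ∧ Nat.card (Cfsg.PSU 4 F 2) = 25920 := by
  obtain ⟨hs, hb, hcard⟩ := CfsgLib.Spor.Tri.Level.simple_su4 (F := F) hF
  let e : Cfsg.PSU 4 F 2 ≃* ↥(Cfsg.SU 4 F 2) :=
    (QuotientGroup.quotientMulEquivOfEq hb).trans QuotientGroup.quotientBot
  haveI : Nontrivial (Cfsg.PSU 4 F 2) := e.toEquiv.nontrivial
  haveI := hs
  refine ⟨IsSimpleGroup.isSimpleGroup_of_surjective e.symm.toMonoidHom e.symm.surjective, ?_,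
    (Nat.card_congr e.toEquiv).trans hcard⟩
  rw [Subgroup.eq_bot_iff_forall]
  intro x hx
  refine e.injective ?_
  have h : e x ∈ center ↥(Cfsg.SU 4 F 2) := mem_center_iff.2 fun y => by
    obtain ⟨y, rfl⟩ := e.surjective y
    rw [← map_mul, ← map_mul, mem_center_iff.1 hx]
  rw [mem_bot.1 (hb.le h), map_one]

theorem large_map {A B : Type*} [Group A] [Group B] (e : A ≃* B) {Q : Subgroup A}
    (h : Cfsg.IsLargeExtraspecial Q) : Cfsg.IsLargeExtraspecial (Q.map e.toMonoidHom) := by
  obtain ⟨h1, h2, h3, h4⟩ := h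
  let q : ↥Q ≃* ↥(Q.map e.toMonoidHom) := Q.equivMapOfInjective e.toMonoidHom e.injective
  have hz : (center ↥(Q.map e.toMonoidHom)).map (Q.map e.toMonoidHom).subtype =
      ((center Q).map Q.subtype).map e.toMonoidHom := by
    ext y
    constructor
    · rintro ⟨⟨_, x, hx, rfl⟩, hy, rfl⟩
      refine ⟨x, ⟨⟨x, hx⟩, mem_center_iff.2 fun s => Subtype.ext (e.injective ?_), rfl⟩, rfl⟩
      have := congrArg Subtype.val (mem_center_iff.1 hy (q s))
      show e ((s : A) * x) = e (x * (s : A))
      rw [map_mul, map_mul]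
      exact this
    · rintro ⟨_, ⟨x, hx, rfl⟩, rfl⟩
      refine ⟨q x, mem_center_iff.2 fun s => ?_, rfl⟩
      obtain ⟨s, rfl⟩ := q.surjective s
      rw [← map_mul, ← map_mul, mem_center_iff.1 hx]
  have hcz : ∀ S : Subgroup A, ∀ y : B,
      y ∈ centralizer ((S.map e.toMonoidHom : Subgroup B) : Set B) ↔ e.symm y ∈ centralizer (S : Set A) := by
    intro S y
    obtain ⟨x, rfl⟩ := e.surjective y
    rw [e.symm_apply_apply, mem_centralizer_iff, mem_centralizer_iff]
    constructor
    · intro hy s hs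
      refine e.injective ?_
      rw [map_mul, map_mul]
      exact hy _ ⟨s, hs, rfl⟩
    · rintro hy _ ⟨s, hs, rfl⟩
      show e s * e x = e x * e s
      rw [← map_mul, ← map_mul, hy s hs]
  refine ⟨CfsgLib.Spor.Affine.isExtraspecial_congr q h1, ?_, ?_, fun K hK hQK => ?_⟩
  · ext y
    rw [hcz, h2, hz, mem_map_equiv]
  · rw [hz, ← map_equiv_normalizer_eq Q e]
    intro y hy
    rw [mem_map_equiv]
    exact h3 ((hcz _ y).1 hy)
  · have hK' : Odd (Nat.card (K.comap e.toMonoidHom)) := by
      have hk : (K.comap e.toMonoidHom).map e.toMonoidHom = K := map_comap_eq_self_of_surjective e.surjective K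
      rwa [← card_map_of_injective (f := e.toMonoidHom) e.injective, hk]
    have hb := h4 _ hK' fun x hx => by
      rw [mem_normalizer_iff]
      intro k
      have := mem_normalizer_iff.1 (hQK ⟨x, hx, rfl⟩) (e k)
      show e k ∈ K ↔ e (x * k * x⁻¹) ∈ K
      rw [map_mul, map_mul, map_inv]
      exact this
    rw [Subgroup.eq_bot_iff_forall]
    intro y hy
    obtain ⟨x, rfl⟩ := e.surjective y
    have : x ∈ K.comap e.toMonoidHom := hy
    rw [hb, mem_bot] at this
    rw [this, map_one]

end CfsgLib.Spor.PairAut
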