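/-
A group generated by elements whose squares and commutators lie in a central subgroup of order two, with a
non-degenerate commutator table, is extraspecial.
-/
import Cfsg.Agent.Lib.Spor.ExtraspecialSubgroup
import Mathlib.Data.Fintype.Pi

set_option autoImplicit false

namespace CfsgLib.Spor.PairAut

open Subgroup

variable {A : Type*} [Group A] {m : ℕ}

/-- The central element or nothing. -/
def zp (z : A) (b : Bool) : A := if b then z else 1

/-- The data of generators. -/
structure Gens (z : A) (g : Fin m → A) (sq : Fin m → Bool) (B : Fin m → Fin m → Bool) : Prop where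
  zz : z * z = 1
  ne : z ≠ 1
  comm : ∀ i, z * g i = g i * z
  square : ∀ i, g i * g i = zp z (sq i)
  conj : ∀ i k, g i * g k * (g i)⁻¹ = g k * zp z (B i k)

/-- The commutator row of a vector. -/
def row (B : Fin m → Fin m → Bool) (e : Fin m → Bool) (k : Fin m) : Bool :=
  (List.finRange m).foldr (fun i r => xor (e i && B i k) r) false

/-- The product over a list. -/
def lprod (g : Fin m → A) (e : Fin m → Bool) (l : List (Fin m)) : A :=
  (l.map fun i => if e i then g i else 1).prod

/-- The subgroup generated. -/
def span (z : A) (g : Fin m → A) : Subgroup A := closure (insert z (Set.range g))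

variable {z : A} {g : Fin m → A} {sq : Fin m → Bool} {B : Fin m → Fin m → Bool}

theorem Gens.zp_mul (h : Gens z g sq B) (a b : Bool) : zp z a * zp z b = zp z (xor a b) := by
  cases a <;> cases b <;> simp [zp, h.zz]

theorem Gens.zp_comm (h : Gens z g sq B) (a : Bool) (i : Fin m) : zp z a * g i = g i * zp z a := by
  cases a
  · simp [zp]
  · simpa [zp] using h.comm i

theorem Gens.zp_comm_inv (h : Gens z g sq B) (a : Bool) (i : Fin m) : zp z a * (g i)⁻¹ = (g i)⁻¹ * zp z a :=
  (Commute.inv_right (h.zp_comm a i)).eq

theorem Gens.zp_lprod (h : Gens z g sq B) (a : Bool) (e : Fin m → Bool) :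
    ∀ l : List (Fin m), zp z a * lprod g e l = lprod g e l * zp z a
  | [] => by simp [lprod]
  | i :: l => by
    have ih : zp z a * lprod g e l = lprod g e l * zp z a := h.zp_lprod a e l
    rw [show lprod g e (i :: l) = (if e i then g i else 1) * lprod g e l from List.prod_cons, mul_assoc _ _ (zp z a),
      ← ih, ← mul_assoc, ← mul_assoc]
    congr 1
    split <;> [exact h.zp_comm a i; simp]

theorem Gens.insert_left (h : Gens z g sq B) (i : Fin m) (e : Fin m → Bool) :
    ∀ l : List (Fin m), l.Nodup → i ∈ l →
      ∃ ε, g i * lprod g e l = zp z ε * lprod g (Function.update e i (!e i)) l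
  | [], _, hi => absurd hi List.not_mem_nil
  | a :: l, hn, hi => by
    obtain ⟨ha, hl⟩ := List.nodup_cons.1 hn
    have hc : ∀ (e : Fin m → Bool), lprod g e (a :: l) = (if e a then g a else 1) * lprod g e l :=
      fun e => List.prod_cons
    by_cases hai : a = i
    · subst hai
      have hrest : lprod g (Function.update e a (!e a)) l = lprod g e l := by
        unfold lprod
        congr 1
        refine List.map_congr_left fun j hj => ?_
        rw [Function.update_of_ne (fun h => ha (by rwa [← h]))]
      rw [hc, hc, hrest, Function.update_self]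
      cases hea : e a
      · exact ⟨false, by simp [zp]⟩
      · refine ⟨sq a, ?_⟩
        simp only [if_true, Bool.not_true, Bool.false_eq_true, if_false, one_mul]
        rw [← mul_assoc, h.square]
    · have hil : i ∈ l := (List.mem_cons.1 hi).resolve_left (Ne.symm hai)
      obtain ⟨ε, he⟩ := h.insert_left i e l hl hil
      rw [hc, hc, Function.update_of_ne hai]
      cases hea : e a
      · exact ⟨ε, by simp [he]⟩
      · refine ⟨xor (B i a) ε, ?_⟩
        simp only [if_true]
        have hs : g i * g a = g a * zp z (B i a) * g i := by rw [← h.conj i a, inv_mul_cancel_right]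
        rw [← mul_assoc, hs, mul_assoc, he, ← h.zp_comm, mul_assoc, ← mul_assoc (g a), ← h.zp_comm ε a,
          mul_assoc (zp z ε), ← mul_assoc (zp z (B i a)), h.zp_mul]

theorem Gens.rep [Finite A] (h : Gens z g sq B) {x : A} (hx : x ∈ span z g) :
    ∃ ε e, x = zp z ε * lprod g e (List.finRange m) := by
  have hx' : x ∈ Submonoid.closure (insert z (Set.range g)) := by
    rw [← closure_toSubmonoid_of_finite]
    exact hx
  induction hx' using Submonoid.closure_induction_left with
  | one =>
    refine ⟨false, fun _ => false, ?_⟩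
    simp [zp, lprod]
  | mul_left y hy w hw ih =>
    obtain ⟨ε, e, rfl⟩ := ih (by
      show w ∈ (closure (insert z (Set.range g))).toSubmonoid
      rw [closure_toSubmonoid_of_finite]; exact hw)
    rcases hy with rfl | ⟨i, rfl⟩
    · refine ⟨!ε, e, ?_⟩
      rw [← mul_assoc]
      congr 1
      cases ε <;> simp [zp, h.zz]
    · obtain ⟨δ, hd⟩ := h.insert_left i e _ (List.nodup_finRange m) (List.mem_finRange i)
      refine ⟨xor ε δ, Function.update e i (!e i), ?_⟩
      rw [← mul_assoc, ← h.zp_comm, mul_assoc, hd, ← mul_assoc, h.zp_mul]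

theorem Gens.conj_lprod (h : Gens z g sq B) (e : Fin m → Bool) (k : Fin m) :
    ∀ l : List (Fin m), lprod g e l * g k * (lprod g e l)⁻¹ =
      g k * zp z (l.foldr (fun i r => xor (e i && B i k) r) false)
  | [] => by simp [lprod, zp]
  | a :: l => by
    have ih := h.conj_lprod e k l
    rw [show lprod g e (a :: l) = (if e a then g a else 1) * lprod g e l from List.prod_cons, List.foldr_cons]
    generalize List.foldr _ false l = r at ih ⊢
    rw [mul_inv_rev, show (if e a then g a else 1) * lprod g e l * g k * ((lprod g e l)⁻¹ * (if e a then g a else 1)⁻¹) =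
      (if e a then g a else 1) * (lprod g e l * g k * (lprod g e l)⁻¹) * (if e a then g a else 1)⁻¹ by group, ih]
    cases hea : e a
    · simp
    · simp only [if_true, Bool.true_and]
      rw [← mul_assoc, mul_assoc (g a * g k), h.zp_comm_inv r a, ← mul_assoc, h.conj, mul_assoc, h.zp_mul]

theorem Gens.comm_gen [Finite A] (h : Gens z g sq B) {x : A} (hx : x ∈ span z g) (k : Fin m) :
    ∃ b, x * g k * x⁻¹ = g k * zp z b := by
  obtain ⟨ε, e, rfl⟩ := h.rep hx
  refine ⟨row B e k, ?_⟩
  unfold row
  rw [mul_inv_rev, show zp z ε * lprod g e (List.finRange m) * g k * ((lprod g e (List.finRange m))⁻¹ * (zp z ε)⁻¹) =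
    zp z ε * (lprod g e (List.finRange m) * g k * (lprod g e (List.finRange m))⁻¹) * (zp z ε)⁻¹ by group,
    h.conj_lprod, ← mul_assoc, h.zp_comm, mul_assoc (g k), h.zp_mul, Bool.xor_comm, ← h.zp_mul, mul_assoc,
    mul_inv_cancel_right]

theorem Gens.z_mem : z ∈ span z g := subset_closure (Set.mem_insert _ _)

theorem Gens.gen_mem (i : Fin m) : g i ∈ span z g := subset_closure (Set.mem_insert_of_mem _ ⟨i, rfl⟩)

theorem Gens.z_comm [Finite A] (h : Gens z g sq B) {x : A} (hx : x ∈ span z g) : z * x = x * z := by
  obtain ⟨ε, e, rfl⟩ := h.rep hx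
  have h1 : z * lprod g e (List.finRange m) = lprod g e (List.finRange m) * z := by
    simpa [zp] using h.zp_lprod true e (List.finRange m)
  cases ε
  · simpa [zp] using h1
  · show z * (z * _) = z * _ * z
    rw [mul_assoc, ← h1]

theorem Gens.commutator_mem [Finite A] (h : Gens z g sq B) {x y : A} (hx : x ∈ span z g) (hy : y ∈ span z g) :
    ∃ b, x * y * x⁻¹ = y * zp z b := by
  have hy' : y ∈ Submonoid.closure (insert z (Set.range g)) := by
    rw [← closure_toSubmonoid_of_finite]; exact hy
  induction hy' using Submonoid.closure_induction_left with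
  | one => exact ⟨false, by simp [zp]⟩
  | mul_left a ha w hw ih =>
    obtain ⟨b, hb⟩ := ih (by
      show w ∈ (closure (insert z (Set.range g))).toSubmonoid
      rw [closure_toSubmonoid_of_finite]; exact hw)
    have hwS : w ∈ span z g := by
      show w ∈ (closure (insert z (Set.range g))).toSubmonoid
      rw [closure_toSubmonoid_of_finite]; exact hw
    obtain ⟨c, hc⟩ : ∃ c, x * a * x⁻¹ = a * zp z c := by
      rcases ha with rfl | ⟨k, rfl⟩
      · exact ⟨false, by rw [← h.z_comm hx, mul_inv_cancel_right]; simp [zp]⟩
      · exact h.comm_gen hx k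
    refine ⟨xor c b, ?_⟩
    have hcw : zp z c * w = w * zp z c := by
      cases c
      · simp [zp]
      · exact h.z_comm hwS
    rw [show x * (a * w) * x⁻¹ = (x * a * x⁻¹) * (x * w * x⁻¹) by group, hc, hb, mul_assoc, ← mul_assoc (zp z c),
      hcw, ← h.zp_mul, mul_assoc w, ← mul_assoc a]

theorem Gens.sq_mem [Finite A] (h : Gens z g sq B) {x : A} (hx : x ∈ span z g) : x * x = 1 ∨ x * x = z := by
  have hx' : x ∈ Submonoid.closure (insert z (Set.range g)) := by
    rw [← closure_toSubmonoid_of_finite]; exact hx
  suffices hsuff : ∃ b, x * x = zp z b by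
    obtain ⟨b, hb⟩ := hsuff
    cases b
    · exact Or.inl hb
    · exact Or.inr hb
  induction hx' using Submonoid.closure_induction_left with
  | one => exact ⟨false, by simp [zp]⟩
  | mul_left a ha w hw ih =>
    have hwS : w ∈ span z g := by
      show w ∈ (closure (insert z (Set.range g))).toSubmonoid
      rw [closure_toSubmonoid_of_finite]; exact hw
    obtain ⟨b, hb⟩ := ih hwS
    have haS : a ∈ span z g := subset_closure ha
    obtain ⟨c, hc⟩ : ∃ c, a * a = zp z c := by
      rcases ha with rfl | ⟨k, rfl⟩
      · exact ⟨false, h.zz⟩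
      · exact ⟨_, h.square k⟩
    obtain ⟨d, hd⟩ := h.commutator_mem hwS haS
    refine ⟨xor c (xor d b), ?_⟩
    rw [show a * w * (a * w) = a * (w * a * w⁻¹) * (w * w) by group, hd, hb, ← mul_assoc a, hc, mul_assoc,
      h.zp_mul, h.zp_mul]

theorem Gens.rep_inj [Finite A] (h : Gens z g sq B) (hnd : ∀ e, (∀ k, row B e k = false) → e = fun _ => false)
    {ε : Bool} {e : Fin m → Bool} (hx : ∀ k, zp z ε * lprod g e (List.finRange m) * g k =
      g k * (zp z ε * lprod g e (List.finRange m))) : e = fun _ => false := by
  refine hnd e fun k => ?_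
  have h1 := h.conj_lprod e k (List.finRange m)
  have h2 : lprod g e (List.finRange m) * g k = g k * lprod g e (List.finRange m) := by
    refine mul_left_cancel (a := zp z ε) ?_
    rw [← mul_assoc, hx k, ← mul_assoc, ← mul_assoc, h.zp_comm]
  rw [h2, mul_inv_cancel_right] at h1
  change row B e k = false
  unfold row
  cases hr : List.foldr (fun i r => xor (e i && B i k) r) false (List.finRange m)
  · rfl
  · rw [hr] at h1
    exact absurd (mul_left_cancel (a := g k) ((mul_one _).trans h1)).symm h.ne

theorem Gens.centre [Finite A] (h : Gens z g sq B) (hnd : ∀ e, (∀ k, row B e k = false) → e = fun _ => false)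
    {x : A} (hx : x ∈ span z g) (hc : ∀ k, x * g k = g k * x) : x = 1 ∨ x = z := by
  obtain ⟨ε, e, rfl⟩ := h.rep hx
  rw [h.rep_inj hnd hc]
  have : lprod g (fun _ => false) (List.finRange m) = 1 := by simp [lprod]
  rw [this, mul_one]
  cases ε
  · exact Or.inl rfl
  · exact Or.inr rfl

theorem lprod_mem (e : Fin m → Bool) (l : List (Fin m)) : lprod g e l ∈ span z g :=
  list_prod_mem fun y hy => by
    obtain ⟨i, -, rfl⟩ := List.mem_map.1 hy
    split
    · exact Gens.gen_mem i
    · exact one_mem _

theorem Gens.card_eq [Finite A] (h : Gens z g sq B) (hnd : ∀ e, (∀ k, row B e k = false) → e = fun _ => false) :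
    Nat.card (span z g) = 2 ^ (m + 1) := by
  let f : Bool × (Fin m → Bool) → span z g := fun p => ⟨zp z p.1 * lprod g p.2 (List.finRange m),
    mul_mem (by unfold zp; split <;> [exact Gens.z_mem; exact one_mem _]) (lprod_mem _ _)⟩
  have hs : Function.Surjective f := fun x => by
    obtain ⟨ε, e, hx⟩ := h.rep x.2
    exact ⟨(ε, e), Subtype.ext hx.symm⟩
  have hi : Function.Injective f := by
    rintro ⟨a, e⟩ ⟨b, e'⟩ he
    replace he : zp z a * lprod g e (List.finRange m) = zp z b * lprod g e' (List.finRange m) := congrArg Subtype.val he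
    have hrow : ∀ k, row B e k = row B e' k := fun k => by
      have h1 := h.conj_lprod e k (List.finRange m)
      have h2 := h.conj_lprod e' k (List.finRange m)
      have h3 : zp z a * (lprod g e (List.finRange m) * g k * (lprod g e (List.finRange m))⁻¹) * (zp z a)⁻¹ =
          zp z b * (lprod g e' (List.finRange m) * g k * (lprod g e' (List.finRange m))⁻¹) * (zp z b)⁻¹ := by
        rw [show zp z a * (lprod g e (List.finRange m) * g k * (lprod g e (List.finRange m))⁻¹) * (zp z a)⁻¹ =
          (zp z a * lprod g e (List.finRange m)) * g k * (zp z a * lprod g e (List.finRange m))⁻¹ by group, he]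
        group
      have hz : ∀ c d, zp z c * (g k * zp z d) * (zp z c)⁻¹ = g k * zp z d := fun c d => by
        rw [← mul_assoc, h.zp_comm, mul_assoc (g k), h.zp_mul, Bool.xor_comm, ← h.zp_mul, ← mul_assoc,
          mul_inv_cancel_right]
      rw [h1, h2, hz, hz] at h3
      have h4 := mul_left_cancel h3
      unfold row
      revert h4
      cases List.foldr (fun i r => xor (e i && B i k) r) false (List.finRange m) <;>
        cases List.foldr (fun i r => xor (e' i && B i k) r) false (List.finRange m) <;> intro h4
      · rfl
      · exact absurd h4.symm h.ne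
      · exact absurd h4 h.ne
      · rfl
    have hxor : ∀ (k : Fin m) (l : List (Fin m)),
        l.foldr (fun i r => xor (xor (e i) (e' i) && B i k) r) false =
          xor (l.foldr (fun i r => xor (e i && B i k) r) false) (l.foldr (fun i r => xor (e' i && B i k) r) false) := by
      intro k l
      induction l with
      | nil => rfl
      | cons i l ih =>
        simp only [List.foldr_cons, ih]
        cases e i <;> cases e' i <;> cases B i k <;>
          cases List.foldr (fun i r => xor (e i && B i k) r) false l <;>
          cases List.foldr (fun i r => xor (e' i && B i k) r) false l <;> rfl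
    have h0 : (fun i => xor (e i) (e' i)) = fun _ => false := hnd _ fun k => by
      unfold row
      rw [hxor]
      have hk := hrow k
      unfold row at hk
      rw [hk, Bool.xor_self]
    have hee : e = e' := funext fun i => by
      have := congrFun h0 i
      revert this
      cases e i <;> cases e' i <;> simp
    subst hee
    have hab := mul_right_cancel he
    cases a <;> cases b
    · rfl
    · exact absurd hab.symm h.ne
    · exact absurd hab h.ne
    · rfl
  rw [← Nat.card_congr (Equiv.ofBijective f ⟨hi, hs⟩)]
  simp [Nat.card_prod, pow_succ, mul_comm]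

theorem Gens.extraspecial [Finite A] (h : Gens z g sq B) (hnd : ∀ e, (∀ k, row B e k = false) → e = fun _ => false)
    (hm : 0 < m) : Cfsg.IsExtraspecial 2 ↥(span z g) := by
  have hp : IsPGroup 2 (span z g) := IsPGroup.of_card (h.card_eq hnd)
  haveI : Fact (Nat.Prime 2) := ⟨Nat.prime_two⟩
  refine CfsgLib.Spor.LargeQ.isExtraspecial_sub hp le_rfl (orderOf_eq_prime (by rw [pow_two]; exact h.zz) h.ne) Gens.z_mem
    (fun a ha b hb => ?_) (fun a ha => h.sq_mem ha) (fun u hu => ⟨fun hc => h.centre hnd hu fun k => (hc _ (Gens.gen_mem k)).symm, ?_⟩) ?_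
  · obtain ⟨c, hc⟩ := h.commutator_mem ha hb
    rw [hc]
    cases c
    · left; simp [zp]
    · right
      show b * z * b⁻¹ = z
      rw [← h.z_comm hb, mul_inv_cancel_right]
  · rintro (rfl | rfl) s hs
    · simp
    · exact (h.z_comm hs).symm
  · by_contra hna
    push Not at hna
    have := h.rep_inj hnd (ε := false) (e := fun i => decide (i = (⟨0, hm⟩ : Fin m))) fun k =>
      hna _ (mul_mem (by simp [zp]) (lprod_mem _ _)) _ (Gens.gen_mem k)
    simpa using congrFun this ⟨0, hm⟩

end CfsgLib.Spor.PairAut
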