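/-
The commutator table of the ten generators is non-degenerate.
-/
import Cfsg.Agent.Lib.Spor.PairAut.Data
import Cfsg.Agent.Lib.Spor.PairAut.SmallGens

set_option autoImplicit false
set_option maxRecDepth 100000
set_option maxHeartbeats 0

namespace CfsgLib.Spor.PairAut

/-- The table of commutators. -/
def tab (i k : Fin 10) : Bool := (commRows.getD i.1 0).testBit k.1

theorem tab_nondeg : ∀ e : Fin 10 → Bool, (∀ k, row tab e k = false) → e = fun _ => false := by decide +kernel

end CfsgLib.Spor.PairAut
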