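/-
The ten generators in the automorphism group of the presented group.
-/
import Cfsg.Agent.Lib.Spor.PairAut.CheckBase
import Cfsg.Agent.Lib.Spor.PairAut.Nondegenerate
import Cfsg.Agent.Lib.Spor.PairAut.AutSimple
import Cfsg.Agent.Lib.Spor.Fi22Model.Basic

set_option autoImplicit false

namespace CfsgLib.Spor.PairAut

open CfsgLib.Spor.TC CfsgLib.Spor.Fi22 CfsgLib.Spor.Fi22Out MulAction

noncomputable section

attribute [local instance] actionH

instance finiteGp : Finite Gp := Fi22Model.finite_gp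

theorem eq_of_same {a b : List ℕ} (h : same a b = true) : el a = el b :=
  CfsgLib.Spor.ActCert.el_eq CfsgLib.Spor.Fi22Thirteen.exact h

theorem ne_of_differ {a b : List ℕ} (h : differ a b = true) : el a ≠ el b :=
  CfsgLib.Spor.ActCert.el_ne CfsgLib.Spor.Fi22Thirteen.exact h

theorem el_app (a b : List ℕ) : el (a ++ b) = el a * el b := ev_append _ _ _

theorem el_nil : el [] = 1 := rfl

theorem el_single (x : ℕ) : el [x] = let' x := by simp [el, ev, let']

theorem let_zero : let' 0 = zee := by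
  rw [let', Act.letters_of_lt (show 0 < ActH.act.k by decide +kernel)]; rfl

theorem el_cons0 (w : List ℕ) : el (0 :: w) = zee * el w := by
  rw [show (0 :: w) = [0] ++ w from rfl, el_app, el_single, let_zero]

theorem mem_getD_lt {l : List (List ℕ)} (h : ∀ w ∈ l, ∀ x ∈ w, x < 9) (i : ℕ) : ∀ x ∈ l.getD i [], x < 9 := by
  by_cases hi : i < l.length
  · rw [List.getD_eq_getElem _ _ hi]; exact h _ (List.getElem_mem hi)
  · rw [List.getD_eq_default _ _ (Nat.not_lt.1 hi)]; simp

theorem el_trW {w : List ℕ} (hw : ∀ x ∈ w, x < 9) : el (trW w) = el w * zee * (el w)⁻¹ := by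
  rw [trW, el_app, el_cons0, el_reverse hw, mul_assoc]

/-! ### The outer element -/

/-- The outer element. -/
def tau : MulAut Gp := MulAut.conj (el uW) * sigma

theorem wordsR_lt (x : ℕ) : ∀ y ∈ Fi22Out.wordsR.getD x [], y < 9 := by
  by_cases hx : x < 9
  · exact allBelow_spec (Fi22Out.words_ok.1 x hx).1
  · have hl : Fi22Out.wordsR.length ≤ 9 := by decide +kernel
    rw [List.getD_eq_default _ _ (hl.trans (Nat.not_lt.1 hx))]; simp

theorem trW_lt {w : List ℕ} (hw : ∀ x ∈ w, x < 9) : ∀ x ∈ trW w, x < 9 := by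
  intro x hx
  rcases List.mem_append.1 hx with h | h
  · exact hw x h
  · rcases List.mem_cons.1 h with rfl | h
    · norm_num
    · exact hw x (List.mem_reverse.1 h)

theorem sW_lt (w : List ℕ) : ∀ x ∈ sW w, x < 9 := by
  intro x hx
  obtain ⟨y, -, hy⟩ := List.mem_flatMap.1 hx
  exact trW_lt (wordsR_lt y) x hy

theorem uW_lt : ∀ x ∈ uW, x < 9 := PairAut.words_ok.2.1

theorem tW_lt (w : List ℕ) : ∀ x ∈ tW w, x < 9 := by
  intro x hx
  rcases List.mem_append.1 hx with h | h
  · rcases List.mem_append.1 h with h | h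
    · exact uW_lt x h
    · exact sW_lt w x h
  · exact uW_lt x (List.mem_reverse.1 h)

theorem sigma_el : ∀ {w : List ℕ}, (∀ x ∈ w, x < 9) → sigma (el w) = el (sW w) := by
  intro w
  induction w with
  | nil => intro _; rw [el_nil, map_one]; rfl
  | cons a w ih =>
    intro h
    have ha : a < 9 := h a List.mem_cons_self
    have hu := (Fi22Out.words_ok.1 a ha).2
    rw [show (a :: w) = [a] ++ w from rfl, el_app, map_mul, ih fun x hx => h x (List.mem_cons_of_mem _ hx), el_single,
      sigma_gen ha, trp_word (p := qpt a) (wordsR_lt a) hu, ← el_app]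
    rfl

theorem tau_el {w : List ℕ} (hw : ∀ x ∈ w, x < 9) : tau (el w) = el (tW w) := by
  rw [tau, MulAut.mul_apply, MulAut.conj_apply, sigma_el hw, tW, el_app, el_app, el_reverse uW_lt]

theorem tau_sq : tau * tau = 1 := by
  refine aut_ext fun x hx => ?_
  have h := square_ok
  simp only [List.all_eq_true, List.mem_range] at h
  have h1 : ∀ y ∈ [x], y < 9 := by simpa using hx
  rw [MulAut.one_apply, ← el_single x, MulAut.mul_apply, tau_el h1, tau_el (tW_lt _), eq_of_same (h x hx)]

theorem tau_tau (g : Gp) : tau (tau g) = g := by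
  rw [← MulAut.mul_apply, tau_sq, MulAut.one_apply]

theorem center_gp {g : Gp} (h : MulAut.conj g = 1) : g = 1 := by
  refine commute_gens fun x _ => (commute_trp_iff _ _).1 ?_
  have := DFunLike.congr_fun h (trp (gpt x))
  rw [MulAut.conj_apply, MulAut.one_apply, mul_inv_eq_iff_eq_mul] at this
  exact this

theorem conj_inj {a b : Gp} (h : MulAut.conj a = MulAut.conj b) : a = b := by
  refine eq_of_mul_inv_eq_one (center_gp ?_)
  rw [map_mul, map_inv, h, mul_inv_cancel]

theorem tau_outer (g : Gp) : MulAut.conj g ≠ tau := by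
  intro h
  refine sigma_outer ⟨(el uW)⁻¹ * g, ?_⟩
  rw [map_mul, map_inv, h, tau]
  group

/-! ### The pair and the generators -/

/-- The second point of the pair. -/
def pp : Pt := ⟨partner, PairAut.words_ok.2.2.2.2.2.1⟩

theorem partnerW_lt : ∀ x ∈ partnerW, x < 9 := PairAut.words_ok.2.2.1

theorem trp_pp : trp pp = el (trW partnerW) :=
  trp_word (p := pp) partnerW_lt PairAut.words_ok.2.2.2.2.2.2.2

theorem pp_ne : pp ≠ pt0 := fun h => PairAut.words_ok.2.2.2.2.2.2.1 (congrArg Fin.val h)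

theorem comm_pair : Commute zee (trp pp) := by
  have h := eq_of_same pair_ok.1
  rw [el_app, el_cons0, el_cons0, el_nil, mul_one, ← trp_pp] at h
  exact h.symm

/-- The product of the pair. -/
def jg : Gp := el jW

theorem jg_eq : jg = zee * trp pp := by rw [jg, jW, el_cons0, trp_pp]

theorem jg_sq : jg * jg = 1 := by
  rw [jg_eq, comm_pair.symm.mul_mul_mul_comm, zee_sq, trp_sq, mul_one]

theorem jg_ne : jg ≠ 1 := fun h => ne_of_differ pair_ok.2.1 h

theorem jW_lt : ∀ x ∈ jW, x < 9 := by
  intro x hx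
  rcases List.mem_cons.1 hx with rfl | h
  · norm_num
  · exact trW_lt partnerW_lt x h

theorem tau_jg : tau jg = jg := by
  rw [jg, tau_el jW_lt, eq_of_same pair_ok.2.2.2.2]

theorem el_zW (b : Bool) : el (zW b) = zp jg b := by cases b <;> rfl

/-- The first nine generators. -/
def gv (k : Fin 9) : Gp := el (eW.getD (eIdx k) [])

theorem eIdx_lt {k : ℕ} (hk : k < 9) : eIdx k < 10 := by
  unfold eIdx; split <;> omega

theorem eW_lt (i : ℕ) : ∀ x ∈ eW.getD i [], x < 9 := mem_getD_lt PairAut.words_ok.1 i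

theorem gv_comm (k : Fin 9) : jg * gv k = gv k * jg := by
  have h := gens_ok
  simp only [List.all_eq_true, List.mem_range, Bool.and_eq_true] at h
  have h1 := eq_of_same (h _ (eIdx_lt k.2)).1
  rwa [el_app, el_app] at h1

theorem gv_sq (k : Fin 9) : gv k * gv k = zp jg (eSq.getD (eIdx k) false) := by
  have h := gens_ok
  simp only [List.all_eq_true, List.mem_range, Bool.and_eq_true] at h
  have h1 := eq_of_same (h _ (eIdx_lt k.2)).2
  rwa [el_app, el_zW] at h1

theorem gv_conj (i k : Fin 9) : gv i * gv k * (gv i)⁻¹ = gv k * zp jg (cBit i k) := by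
  have h := comm_ok
  simp only [List.all_eq_true, List.mem_range] at h
  have h1 := eq_of_same (h i i.2 k k.2)
  rw [el_app, el_app, el_app, el_zW] at h1
  rw [gv, gv, h1, mul_inv_cancel_right]

theorem gv_tau (k : Fin 9) : tau (gv k) = gv k * zp jg (cBit 9 k) ∧ cBit k 9 = cBit 9 k := by
  have h := outer_ok.1
  simp only [List.all_eq_true, List.mem_range, Bool.and_eq_true, beq_iff_eq] at h
  obtain ⟨h1, h2⟩ := h k k.2
  refine ⟨?_, h2⟩
  rw [gv, tau_el (eW_lt _), eq_of_same h1, el_app, el_zW]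

theorem tau_zp (b : Bool) : tau (zp jg b) = zp jg b := by
  cases b
  · exact map_one _
  · exact tau_jg

theorem zp_inv (b : Bool) : (zp jg b)⁻¹ = zp jg b := by
  cases b
  · exact inv_one
  · exact inv_eq_of_mul_eq_one_right jg_sq

theorem conj_zp (b : Bool) : MulAut.conj (zp jg b) = zp (MulAut.conj jg) b := by
  cases b
  · exact map_one _
  · rfl

theorem tau_conj (g : Gp) : tau * MulAut.conj g * tau⁻¹ = MulAut.conj (tau g) := aut_conj _ _

theorem conj_mul_tau (g : Gp) : tau * MulAut.conj g = MulAut.conj (tau g) * tau := by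
  rw [← tau_conj g, inv_mul_cancel_right]

/-- The ten generators. -/
def gf (i : Fin 10) : MulAut Gp := if h : i.1 < 9 then MulAut.conj (gv ⟨i.1, h⟩) else tau

/-- Their squares. -/
def sqf (i : Fin 10) : Bool := if i.1 < 9 then eSq.getD (eIdx i) false else false

theorem gens_data : Gens (MulAut.conj jg) gf sqf tab := by
  constructor
  · rw [← map_mul, jg_sq, map_one]
  · exact fun h => jg_ne (center_gp h)
  · intro i
    unfold gf
    split
    · rw [← map_mul, ← map_mul, gv_comm]
    · rw [conj_mul_tau, tau_jg]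
  · intro i
    unfold gf sqf
    split
    · rename_i h
      rw [← map_mul, gv_sq ⟨i.1, h⟩, conj_zp]
    · exact tau_sq
  · intro i k
    unfold gf tab
    change _ = _ * zp _ (cBit i k)
    by_cases hi : i.1 < 9 <;> by_cases hk : k.1 < 9
    · rw [dif_pos hi, dif_pos hk, ← map_mul, ← map_inv, ← map_mul, gv_conj, map_mul, conj_zp]
    · rw [dif_pos hi, dif_neg hk, ← map_inv, mul_assoc, conj_mul_tau, ← mul_assoc, ← map_mul,
        show (k : ℕ) = 9 by have := k.2; omega, (gv_tau ⟨i.1, hi⟩).2]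
      have e : gv ⟨i.1, hi⟩ * tau (gv ⟨i.1, hi⟩)⁻¹ = zp jg (cBit 9 i) := by
        rw [map_inv, (gv_tau ⟨i.1, hi⟩).1, mul_inv_rev, zp_inv]
        cases cBit 9 i
        · simp [zp]
        · show gv _ * (jg * _) = jg
          rw [← mul_assoc, ← gv_comm, mul_inv_cancel_right]
      rw [e, conj_zp]
      cases cBit 9 i
      · simp [zp]
      · show MulAut.conj jg * tau = tau * MulAut.conj jg
        rw [conj_mul_tau, tau_jg]
    · rw [dif_neg hi, dif_pos hk, tau_conj, show (i : ℕ) = 9 by have := i.2; omega, (gv_tau ⟨k.1, hk⟩).1, map_mul,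
        conj_zp]
    · rw [dif_neg hi, dif_neg hk, show (i : ℕ) = 9 by have := i.2; omega, show (k : ℕ) = 9 by have := k.2; omega,
        outer_ok.2, mul_inv_cancel_right]
      simp [zp]

/-- The subgroup generated by the first nine with the product. -/
def E0 : Subgroup Gp := Subgroup.closure (insert jg (Set.range gv))

/-- The extraspecial subgroup. -/
def Qp : Subgroup (MulAut Gp) := span (MulAut.conj jg) gf

theorem qp_card : Nat.card Qp = 2 ^ 11 := gens_data.card_eq tab_nondeg

theorem qp_extraspecial : Cfsg.IsExtraspecial 2 ↥Qp := gens_data.extraspecial tab_nondeg (by norm_num)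

theorem jg_mem : jg ∈ E0 := Subgroup.subset_closure (Set.mem_insert _ _)

theorem gv_mem (k : Fin 9) : gv k ∈ E0 := Subgroup.subset_closure (Set.mem_insert_of_mem _ ⟨k, rfl⟩)

theorem zp_mem (b : Bool) : zp jg b ∈ E0 := by
  cases b
  · exact one_mem _
  · exact jg_mem

theorem tau_mem {e : Gp} (he : e ∈ E0) : tau e ∈ E0 := by
  induction he using Subgroup.closure_induction with
  | mem x hx =>
    rcases hx with rfl | ⟨k, rfl⟩
    · rw [tau_jg]; exact jg_mem
    · rw [(gv_tau k).1]; exact mul_mem (gv_mem k) (zp_mem _)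
  | one => rw [map_one]; exact one_mem _
  | mul x y _ _ hx hy => rw [map_mul]; exact mul_mem hx hy
  | inv x _ hx => rw [map_inv]; exact inv_mem hx

theorem conj_mem_qp {e : Gp} (he : e ∈ E0) : MulAut.conj e ∈ Qp := by
  induction he using Subgroup.closure_induction with
  | mem x hx =>
    rcases hx with rfl | ⟨k, rfl⟩
    · exact Gens.z_mem
    · have h := Gens.gen_mem (z := MulAut.conj jg) (g := gf) (⟨k.1, by omega⟩ : Fin 10)
      unfold gf at h
      rw [dif_pos k.2] at h
      exact h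
  | one => rw [map_one]; exact one_mem _
  | mul x y _ _ hx hy => rw [map_mul]; exact mul_mem hx hy
  | inv x _ hx => rw [map_inv]; exact inv_mem hx

theorem tau_mem_qp : tau ∈ Qp := by
  have h := Gens.gen_mem (z := MulAut.conj jg) (g := gf) (⟨9, by norm_num⟩ : Fin 10)
  unfold gf at h
  rwa [dif_neg (by norm_num)] at h

theorem mem_qp_cases {x : MulAut Gp} (hx : x ∈ Qp) :
    ∃ e ∈ E0, x = MulAut.conj e ∨ x = MulAut.conj e * tau := by
  induction hx using Subgroup.closure_induction with
  | mem x hx =>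
    rcases hx with rfl | ⟨i, rfl⟩
    · exact ⟨jg, jg_mem, Or.inl rfl⟩
    · unfold gf
      split
      · exact ⟨_, gv_mem _, Or.inl rfl⟩
      · exact ⟨1, one_mem _, Or.inr (by rw [map_one, one_mul])⟩
  | one => exact ⟨1, one_mem _, Or.inl (map_one _).symm⟩
  | mul x y _ _ hx hy =>
    obtain ⟨a, ha, hxa⟩ := hx
    obtain ⟨b, hb, hyb⟩ := hy
    rcases hxa with rfl | rfl <;> rcases hyb with rfl | rfl
    · exact ⟨a * b, mul_mem ha hb, Or.inl (map_mul _ _ _).symm⟩
    · exact ⟨a * b, mul_mem ha hb, Or.inr (by rw [map_mul, mul_assoc])⟩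
    · exact ⟨a * tau b, mul_mem ha (tau_mem hb), Or.inr (by rw [map_mul, mul_assoc, mul_assoc, conj_mul_tau])⟩
    · refine ⟨a * tau b, mul_mem ha (tau_mem hb), Or.inl ?_⟩
      rw [map_mul, mul_assoc, ← mul_assoc tau, conj_mul_tau, mul_assoc (MulAut.conj (tau b)), tau_sq, mul_one]
  | inv x _ hx =>
    obtain ⟨a, ha, hxa⟩ := hx
    rcases hxa with rfl | rfl
    · exact ⟨a⁻¹, inv_mem ha, Or.inl (map_inv _ _).symm⟩
    · refine ⟨tau a⁻¹, tau_mem (inv_mem ha), Or.inr ?_⟩
      rw [mul_inv_rev, ← map_inv, inv_eq_of_mul_eq_one_right tau_sq, conj_mul_tau]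

theorem conj_mem_qp_iff {g : Gp} : MulAut.conj g ∈ Qp ↔ g ∈ E0 := by
  refine ⟨fun h => ?_, conj_mem_qp⟩
  obtain ⟨e, he, hr | hr⟩ := mem_qp_cases h
  · rwa [conj_inj hr]
  · refine absurd ?_ (tau_outer (e⁻¹ * g))
    rw [map_mul, map_inv, hr, inv_mul_cancel_left]

theorem e0_card : Nat.card E0 ∣ 2 ^ 11 ∧ 1024 ≤ Nat.card E0 := by
  have hle : E0.map (MulAut.conj : Gp →* MulAut Gp) ≤ Qp := by
    rintro _ ⟨e, he, rfl⟩; exact conj_mem_qp he
  have hc : Nat.card (E0.map (MulAut.conj : Gp →* MulAut Gp)) = Nat.card E0 :=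
    Subgroup.card_map_of_injective fun a b h => conj_inj h
  refine ⟨qp_card ▸ hc ▸ Subgroup.card_dvd_of_le hle, ?_⟩
  let f : E0 × Bool → Qp := fun p => ⟨MulAut.conj (p.1 : Gp) * (if p.2 then tau else 1),
    mul_mem (conj_mem_qp p.1.2) (by split <;> [exact tau_mem_qp; exact one_mem _])⟩
  have hf : Function.Surjective f := by
    intro x
    obtain ⟨e, he, hr | hr⟩ := mem_qp_cases x.2
    · exact ⟨(⟨e, he⟩, false), Subtype.ext (by simp [f, hr])⟩
    · exact ⟨(⟨e, he⟩, true), Subtype.ext (by simp [f, hr])⟩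
  have h := Nat.card_le_card_of_surjective f hf
  rw [qp_card, Nat.card_prod, Nat.card_eq_fintype_card (α := Bool), Fintype.card_bool] at h
  omega

theorem e0_comm {a b : Gp} (ha : a ∈ E0) (hb : b ∈ E0) : ∃ c, a * b * a⁻¹ = b * zp jg c := by
  obtain ⟨c, hc⟩ := gens_data.commutator_mem (conj_mem_qp ha) (conj_mem_qp hb)
  refine ⟨c, conj_inj ?_⟩
  rw [map_mul, map_mul, map_inv, hc, map_mul, conj_zp]

theorem tau_comm {b : Gp} (hb : b ∈ E0) : ∃ c, tau b = b * zp jg c := by
  obtain ⟨c, hc⟩ := gens_data.commutator_mem tau_mem_qp (conj_mem_qp hb)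
  refine ⟨c, conj_inj ?_⟩
  rw [← tau_conj, hc, map_mul, conj_zp]

theorem eW_mem (i : ℕ) (hi : i < 10) : el (eW.getD i []) ∈ E0 := by
  rcases Nat.lt_trichotomy i 1 with h | rfl | h
  · obtain rfl : i = 0 := by omega
    exact gv_mem ⟨0, by norm_num⟩
  · have h0 : zee ∈ E0 := by
      have := gv_mem ⟨0, by norm_num⟩
      rwa [gv, show eIdx ((⟨0, by norm_num⟩ : Fin 9) : ℕ) = 0 from rfl, eq_of_same pair_ok.2.2.2.1, el_single,
        let_zero] at this
    rw [eq_of_same pair_ok.2.2.1, ← trp_pp, show trp pp = zee⁻¹ * jg by rw [jg_eq, inv_mul_cancel_left]]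
    exact mul_mem (inv_mem h0) jg_mem
  · have := gv_mem ⟨i - 1, by omega⟩
    rwa [gv, show eIdx ((⟨i - 1, by omega⟩ : Fin 9) : ℕ) = i by
      show eIdx (i - 1) = i
      rw [eIdx, if_neg (by omega)]; omega] at this

theorem eltW_mem (c : ℕ) : el (eltW c) ∈ E0 := by
  have key : ∀ l : List ℕ, (∀ i ∈ l, i < 10) →
      el (l.flatMap fun i => if c.testBit i then eW.getD i [] else []) ∈ E0 := by
    intro l
    induction l with
    | nil => intro _; exact one_mem _
    | cons a l ih =>
      intro h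
      rw [List.flatMap_cons, el_app]
      refine mul_mem ?_ (ih fun i hi => h i (List.mem_cons_of_mem _ hi))
      split
      · exact eW_mem a (h a List.mem_cons_self)
      · exact one_mem _
  exact key _ fun i hi => List.mem_range.1 hi

end

end CfsgLib.Spor.PairAut
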