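/-
Common transpositions normalizing, by kernel evaluation.
-/
import Cfsg.Agent.Lib.Spor.PairAut.CheckBase

set_option autoImplicit false
set_option maxRecDepth 100000
set_option maxHeartbeats 0

namespace CfsgLib.Spor.PairAut

open CfsgLib.Spor.Fi22 CfsgLib.Spor.ActCert

theorem norm_ok0 : ((List.range' 0 30).all fun a => normAt a) = true := by decide +kernel

end CfsgLib.Spor.PairAut
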