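/-
The kernel checks, collected.
-/
import Cfsg.Agent.Lib.Spor.PairAut.CheckMove0
import Cfsg.Agent.Lib.Spor.PairAut.CheckMove1
import Cfsg.Agent.Lib.Spor.PairAut.CheckNorm0
import Cfsg.Agent.Lib.Spor.PairAut.CheckNorm1
import Cfsg.Agent.Lib.Spor.PairAut.CheckNorm2
import Cfsg.Agent.Lib.Spor.PairAut.CheckNorm3
import Cfsg.Agent.Lib.Spor.PairAut.CheckNorm4
import Cfsg.Agent.Lib.Spor.PairAut.CheckNorm5

set_option autoImplicit false

namespace CfsgLib.Spor.PairAut

theorem move_ok : ((List.range 180).all fun a => moveAt a) = true := by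
  rw [List.all_eq_true]
  intro a ha
  rw [List.mem_range] at ha
  by_cases h : a < 90
  · exact List.all_eq_true.1 move_ok0 a (List.mem_range'_1.2 ⟨by omega, by omega⟩)
  · exact List.all_eq_true.1 move_ok1 a (List.mem_range'_1.2 ⟨by omega, by omega⟩)

theorem norm_ok : ((List.range 180).all fun a => normAt a) = true := by
  rw [List.all_eq_true]
  intro a ha
  rw [List.mem_range] at ha
  by_cases h0 : a < 30
  · exact List.all_eq_true.1 norm_ok0 a (List.mem_range'_1.2 ⟨by omega, by omega⟩)
  by_cases h1 : a < 60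
  · exact List.all_eq_true.1 norm_ok1 a (List.mem_range'_1.2 ⟨by omega, by omega⟩)
  by_cases h2 : a < 90
  · exact List.all_eq_true.1 norm_ok2 a (List.mem_range'_1.2 ⟨by omega, by omega⟩)
  by_cases h3 : a < 120
  · exact List.all_eq_true.1 norm_ok3 a (List.mem_range'_1.2 ⟨by omega, by omega⟩)
  by_cases h4 : a < 150
  · exact List.all_eq_true.1 norm_ok4 a (List.mem_range'_1.2 ⟨by omega, by omega⟩)
  by_cases h5 : a < 180
  · exact List.all_eq_true.1 norm_ok5 a (List.mem_range'_1.2 ⟨by omega, by omega⟩)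
  omega

end CfsgLib.Spor.PairAut
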