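/-
The kernel above which the centralizer of the product of the pair is the automorphism group of a simple group.
-/
import Cfsg.Agent.Lib.Spor.PairAut.Basic
import Cfsg.Agent.Lib.Spor.PairAut.Check

set_option autoImplicit false

namespace CfsgLib.Spor.PairAut

open CfsgLib.Spor.TC CfsgLib.Spor.Fi22 CfsgLib.Spor.Fi22Out MulAction

noncomputable section

attribute [local instance] actionH

/-- The centralizer of the product. -/
abbrev C0 : Subgroup Gp := Subgroup.centralizer ({jg} : Set Gp)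

theorem mem_C0 {g : Gp} : g ∈ C0 ↔ g * jg = jg * g := Subgroup.mem_centralizer_singleton_iff

theorem e0_le : E0 ≤ C0 := by
  rw [E0, Subgroup.closure_le]
  rintro x (rfl | ⟨k, rfl⟩)
  · exact mem_C0.2 rfl
  · exact mem_C0.2 (gv_comm k).symm

theorem tau_C0 {g : Gp} (h : g ∈ C0) : tau g ∈ C0 := by
  have h' := congrArg tau (mem_C0.1 h)
  rw [map_mul, map_mul, tau_jg] at h'
  exact mem_C0.2 h'

/-- The common transpositions. -/
def tv (a : ℕ) : Gp := el (trW (commonW.getD a []))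

theorem commonW_lt (a : ℕ) : ∀ x ∈ commonW.getD a [], x < 9 := mem_getD_lt PairAut.words_ok.2.2.2.1 a

theorem common_lt {a : ℕ} (ha : a < 180) : commonPts.getD a 0 ∈ commonPts := by
  rw [List.getD_eq_getElem _ _ (common_pts.1.symm ▸ ha)]
  exact List.getElem_mem _

/-- The common points. -/
def common : Set Pt := {x | x ≠ pt0 ∧ x ≠ pp ∧ zee • x = x ∧ trp pp • x = x}

theorem zee_smul (x : Pt) : ((zee • x : Pt) : ℕ) = ActH.act.T 0 x := by
  rw [← let_zero]; exact let_smul (below_K (w := [0]) (by simp) 0 (by simp)) x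

theorem pp_smul (x : Pt) : ((trp pp • x : Pt) : ℕ) = ActH.act.wact (trW partnerW) x := by
  rw [trp_pp]; exact el_smul (below_K (trW_lt partnerW_lt)) x

theorem tv_trp {a : ℕ} (ha : a < 180) : ∃ p ∈ common, tv a = trp p := by
  have h := common_in
  simp only [List.all_eq_true, Bool.and_eq_true, Bool.not_eq_true'] at h
  obtain ⟨⟨⟨⟨h1, h2⟩, h3⟩, h4⟩, h5⟩ := h _ (common_lt ha)
  have hlt : commonPts.getD a 0 < ActH.act.n := Nat.le_of_ble_eq_true h1
  refine ⟨⟨commonPts.getD a 0, hlt⟩, ⟨fun e => ?_, fun e => ?_, ?_, ?_⟩, ?_⟩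
  · have := congrArg Fin.val e
    simp only at this
    rw [this] at h2
    exact absurd h2 (by decide +kernel)
  · have := congrArg Fin.val e
    simp only at this
    rw [this] at h3
    exact absurd h3 (by simp [pp])
  · exact Fin.ext ((zee_smul _).trans (Nat.eq_of_beq_eq_true h4))
  · exact Fin.ext ((pp_smul _).trans (Nat.eq_of_beq_eq_true h5))
  · have h' := common_pts.2
    simp only [List.all_eq_true, List.mem_range] at h'
    rw [tv, trW, trp_word (p := (⟨commonPts.getD a 0, hlt⟩ : Pt)) (commonW_lt a)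
      (Nat.eq_of_beq_eq_true (h' a (common_pts.1.symm ▸ ha)))]

theorem trp_common {p : Pt} (hp : p ∈ common) : ∃ a < 180, tv a = trp p := by
  obtain ⟨h0, h1, h2, h3⟩ := hp
  have h := common_full
  simp only [List.all_eq_true, List.mem_range, Bool.or_eq_true, Bool.not_eq_true', List.contains_eq_mem,
    decide_eq_true_eq] at h
  rcases h p.1 p.2 with hf | hmem
  · exfalso
    have e2 : ActH.act.T 0 p = p := (zee_smul p).symm.trans (congrArg Fin.val h2)
    have e3 : ActH.act.wact (trW partnerW) p = p := (pp_smul p).symm.trans (congrArg Fin.val h3)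
    have n0 : Nat.beq p.1 0 = false := by
      rw [← Bool.not_eq_true]
      exact fun e => h0 (Fin.ext (Nat.eq_of_beq_eq_true e))
    have n1 : Nat.beq p.1 partner = false := by
      rw [← Bool.not_eq_true]
      exact fun e => h1 (Fin.ext (Nat.eq_of_beq_eq_true e))
    rw [n0, n1, e2, e3] at hf
    simp [Nat.beq_refl] at hf
  · obtain ⟨a, ha, hpa⟩ := List.mem_iff_getElem.1 hmem
    have ha' : a < 180 := common_pts.1 ▸ ha
    refine ⟨a, ha', ?_⟩
    have h' := common_pts.2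
    simp only [List.all_eq_true, List.mem_range] at h'
    rw [tv, trW, trp_word (p := p) (commonW_lt a)
      ((Nat.eq_of_beq_eq_true (h' a ha)).trans ((List.getD_eq_getElem _ _ ha).trans hpa))]

/-- The group of the common transpositions. -/
def Hs : Subgroup Gp := Subgroup.closure {x | ∃ a < 180, x = tv a}

theorem tv_mem {a : ℕ} (ha : a < 180) : tv a ∈ Hs := Subgroup.subset_closure ⟨a, ha, rfl⟩

theorem tv_C0 {a : ℕ} (ha : a < 180) : tv a ∈ C0 := by
  obtain ⟨p, ⟨-, -, h2, h3⟩, hp⟩ := tv_trp ha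
  rw [hp, mem_C0, jg_eq]
  exact (((commute_trp_iff _ _).2 h2).symm.mul_right ((commute_trp_iff _ _).2 h3).symm).eq

theorem hs_le : Hs ≤ C0 := by
  rw [Hs, Subgroup.closure_le]
  rintro x ⟨a, ha, rfl⟩
  exact tv_C0 ha

/-- Elements of the centralizer of the product fix or exchange the pair. -/
def PairSplit : Prop := ∀ c ∈ C0,
  (c * zee * c⁻¹ = zee ∧ c * trp pp * c⁻¹ = trp pp) ∨ (c * zee * c⁻¹ = trp pp ∧ c * trp pp * c⁻¹ = zee)

theorem hs_conj (hp : PairSplit) {c h : Gp} (hc : c ∈ C0) (hh : h ∈ Hs) : c * h * c⁻¹ ∈ Hs := by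
  induction hh using Subgroup.closure_induction with
  | mem x hx =>
    obtain ⟨a, ha, rfl⟩ := hx
    obtain ⟨p, ⟨q0, q1, q2, q3⟩, hpa⟩ := tv_trp ha
    rw [hpa, conj_trp]
    suffices hm : c • p ∈ common by
      obtain ⟨b, hb, e⟩ := trp_common hm
      rw [← e]; exact tv_mem hb
    have key : ∀ q : Pt, trp q • p = p → trp (c • q) • (c • p) = c • p := fun q hq =>
      (trp_fix_smul c q p).2 hq
    have k0 : trp pt0 • p = p := by rw [trp_pt0]; exact q2
    rcases hp c hc with ⟨e0, e1⟩ | ⟨e0, e1⟩ <;> rw [← trp_pt0, conj_trp] at e0 <;> rw [conj_trp] at e1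
    · have f0 := trp_inj e0
      have f1 := trp_inj e1
      refine ⟨fun r => q0 (smul_left_cancel c (r.trans f0.symm)), fun r => q1 (smul_left_cancel c (r.trans f1.symm)),
        ?_, ?_⟩
      · rw [← trp_pt0]; simpa only [f0] using key pt0 k0
      · simpa only [f1] using key pp q3
    · have f0 := trp_inj e0
      have f1 := trp_inj (e1.trans trp_pt0.symm)
      refine ⟨fun r => q1 (smul_left_cancel c (r.trans f1.symm)), fun r => q0 (smul_left_cancel c (r.trans f0.symm)),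
        ?_, ?_⟩
      · rw [← trp_pt0]; simpa only [f1] using key pp q3
      · simpa only [f0] using key pt0 k0
  | one => rw [mul_one, mul_inv_cancel]; exact one_mem _
  | mul x y _ _ hx hy =>
    rw [show c * (x * y) * c⁻¹ = (c * x * c⁻¹) * (c * y * c⁻¹) by group]
    exact mul_mem hx hy
  | inv x _ hx =>
    rw [show c * x⁻¹ * c⁻¹ = (c * x * c⁻¹)⁻¹ by group]
    exact inv_mem hx

theorem tv_norm {a : ℕ} (ha : a < 180) {e : Gp} (he : e ∈ E0) : tv a * e * (tv a)⁻¹ ∈ E0 := by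
  have hinv : (tv a)⁻¹ = tv a := by
    obtain ⟨p, -, hp⟩ := tv_trp ha
    exact inv_eq_of_mul_eq_one_right (hp ▸ trp_sq p)
  have h := norm_ok
  simp only [List.all_eq_true, List.mem_range] at h
  have hw : ∀ i, i < 10 → tv a * el (eW.getD i []) * tv a ∈ E0 := fun i hi => by
    simp only [normAt, List.all_eq_true, List.mem_range] at h
    have h1 := eq_of_same (h a ha i hi)
    rw [el_app, el_app] at h1
    rw [tv, h1]
    exact eltW_mem _
  induction he using Subgroup.closure_induction with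
  | mem x hx =>
    rw [hinv]
    rcases hx with rfl | ⟨k, rfl⟩
    · have h0 := hw 0 (by norm_num)
      have h1 := hw 1 (by norm_num)
      rw [eq_of_same pair_ok.2.2.2.1, el_single, let_zero] at h0
      rw [eq_of_same pair_ok.2.2.1, ← trp_pp] at h1
      have hs : tv a * tv a = 1 := by
        calc tv a * tv a = tv a * (tv a)⁻¹ := by rw [hinv]
          _ = 1 := mul_inv_cancel _
      have e : tv a * jg * tv a = tv a * zee * tv a * (tv a * trp pp * tv a) := by
        rw [jg_eq]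
        calc tv a * (zee * trp pp) * tv a = tv a * zee * (tv a * tv a) * trp pp * tv a := by rw [hs]; group
          _ = _ := by group
      rw [e]
      exact mul_mem h0 h1
    · exact hw _ (eIdx_lt k.2)
  | one => rw [mul_one, mul_inv_cancel]; exact one_mem _
  | mul x y _ _ hx hy =>
    rw [show tv a * (x * y) * (tv a)⁻¹ = (tv a * x * (tv a)⁻¹) * (tv a * y * (tv a)⁻¹) by group]
    exact mul_mem hx hy
  | inv x _ hx =>
    rw [show tv a * x⁻¹ * (tv a)⁻¹ = (tv a * x * (tv a)⁻¹)⁻¹ by group]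
    exact inv_mem hx

theorem hs_norm {h : Gp} (hh : h ∈ Hs) : ∀ {e : Gp}, e ∈ E0 → h * e * h⁻¹ ∈ E0 := by
  have hh' : h ∈ Submonoid.closure {x | ∃ a < 180, x = tv a} := by
    rw [← Subgroup.closure_toSubmonoid_of_finite]; exact hh
  clear hh
  induction hh' using Submonoid.closure_induction with
  | mem x hx =>
    obtain ⟨a, ha, rfl⟩ := hx
    intro e he
    exact tv_norm ha he
  | one => intro e he; rw [one_mul, inv_one, mul_one]; exact he
  | mul x y _ _ hx hy =>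
    intro e he
    rw [show x * y * e * (x * y)⁻¹ = x * (y * e * y⁻¹) * x⁻¹ by group]
    exact hx (hy he)

/-- The witness. -/
def wv : Gp := el witW

theorem wv_eq : wv = tv witness.1 * tv witness.2.1 := el_app _ _

theorem wv_mem : wv ∈ Hs := wv_eq ▸ mul_mem (tv_mem witness_ok.1) (tv_mem witness_ok.2.1)

theorem wv_pow : wv ^ 3 = 1 ∧ wv ≠ 1 := by
  refine ⟨?_, fun h => ne_of_differ witness_ok.2.2.2.2.1 h⟩
  have h := eq_of_same witness_ok.2.2.2.1
  rw [el_app, el_app] at h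
  rw [pow_succ, pow_succ, pow_one]
  exact h

variable {F : Type} [Field F] [Fintype F] (hF : Fintype.card F = 4) (hp : PairSplit)
  (φ : ↥C0 →* MulAut (Cfsg.PSU 4 F 2)) (hφs : Function.Surjective φ) (hφk : Nat.card φ.ker = 1024)

include hφk in
theorem wv_not_ker : φ ⟨wv, hs_le wv_mem⟩ ≠ 1 := by
  intro h
  have hm : (⟨wv, hs_le wv_mem⟩ : ↥C0) ∈ φ.ker := h
  have h1 := orderOf_dvd_natCard (⟨_, hm⟩ : φ.ker)
  rw [hφk, ← Subgroup.orderOf_coe, ← Subgroup.orderOf_coe] at h1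
  haveI : Fact (Nat.Prime 3) := ⟨Nat.prime_three⟩
  rw [show orderOf (((⟨_, hm⟩ : φ.ker) : ↥C0) : Gp) = 3 from orderOf_eq_prime wv_pow.1 wv_pow.2] at h1
  norm_num at h1

include hF hp hφs hφk in
theorem inner_le_image (p : Cfsg.PSU 4 F 2) : ∃ h : Gp, ∃ hh : h ∈ Hs, φ ⟨h, hs_le hh⟩ = MulAut.conj p := by
  obtain ⟨hS, hc, -⟩ := psu4_facts hF
  rcases eq_bot_or_inner_le hc ((Hs.subgroupOf C0).map φ) (fun q k hk => by
    obtain ⟨x, hx, rfl⟩ := hk
    obtain ⟨y, hy⟩ := hφs (MulAut.conj q)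
    rw [← hy, ← map_mul, ← map_inv, ← map_mul]
    exact ⟨_, hs_conj hp y.2 hx, rfl⟩) with h | h
  · exfalso
    have : φ ⟨wv, hs_le wv_mem⟩ ∈ (Hs.subgroupOf C0).map φ := ⟨_, wv_mem, rfl⟩
    rw [h, Subgroup.mem_bot] at this
    exact wv_not_ker φ hφk this
  · obtain ⟨x, hx, e⟩ := h ⟨p, rfl⟩
    exact ⟨x, hx, e⟩

include hF hp hφs hφk in
theorem e0_eq_ker : E0.subgroupOf C0 = φ.ker := by
  obtain ⟨hS, hc, hcard⟩ := psu4_facts hF
  have hE : Nat.card (E0.subgroupOf C0) = Nat.card E0 := Nat.card_congr (Subgroup.subgroupOfEquivOfLe e0_le).toEquiv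
  have hle : E0.subgroupOf C0 ≤ φ.ker := by
    rcases eq_bot_or_inner_le hc ((E0.subgroupOf C0).map φ) (fun q k hk => by
      obtain ⟨x, hx, rfl⟩ := hk
      obtain ⟨h, hh, e⟩ := inner_le_image hF hp φ hφs hφk q
      rw [← e, ← map_mul, ← map_inv, ← map_mul]
      exact ⟨_, hs_norm hh hx, rfl⟩) with h | h
    · intro x hx
      have : φ x ∈ (E0.subgroupOf C0).map φ := ⟨x, hx, rfl⟩
      rwa [h, Subgroup.mem_bot] at this
    · exfalso
      have h1 := Subgroup.card_dvd_of_le h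
      rw [card_inner hc, hcard] at h1
      have h2 : 25920 ∣ 2 ^ 11 := h1.trans ((Subgroup.card_map_dvd _ φ).trans (hE ▸ e0_card.1))
      norm_num at h2
  exact Subgroup.eq_of_le_of_card_ge hle (by rw [hE, hφk]; exact e0_card.2)

include hF hp hφs hφk in
theorem mem_e0_iff {g : Gp} (hg : g ∈ C0) : φ ⟨g, hg⟩ = 1 ↔ g ∈ E0 := by
  rw [← MonoidHom.mem_ker, ← e0_eq_ker hF hp φ hφs hφk, Subgroup.mem_subgroupOf]

include hF hp hφs hφk in
theorem e0_conj {c e : Gp} (hc : c ∈ C0) (he : e ∈ E0) : c * e * c⁻¹ ∈ E0 := by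
  have h := (φ.normal_ker).conj_mem ⟨e, e0_le he⟩ ((mem_e0_iff hF hp φ hφs hφk (e0_le he)).2 he) ⟨c, hc⟩
  exact (mem_e0_iff hF hp φ hφs hφk _).1 h

include hF hp hφs hφk in
theorem tau_trivial {c : Gp} (hc : c ∈ C0) : tau c * c⁻¹ ∈ E0 := by
  obtain ⟨hS, hcen, -⟩ := psu4_facts hF
  let ψ : ↥C0 →* MulAut (Cfsg.PSU 4 F 2) := MonoidHom.mk' (fun x => φ ⟨tau x, tau_C0 x.2⟩) fun x y => by
    rw [← map_mul]; exact congrArg φ (Subtype.ext (map_mul tau _ _))
  have hH : ∀ h (hh : h ∈ Hs), ψ ⟨h, hs_le hh⟩ = φ ⟨h, hs_le hh⟩ := by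
    intro h hh
    induction hh using Subgroup.closure_induction with
    | mem x hx =>
      obtain ⟨a, ha, rfl⟩ := hx
      have h := move_ok
      simp only [List.all_eq_true, List.mem_range] at h
      simp only [moveAt] at h
      have h1 := eq_of_same (h a ha)
      rw [el_app, ← tau_el (trW_lt (commonW_lt a))] at h1
      show φ ⟨tau (tv a), _⟩ = φ ⟨tv a, _⟩
      rw [show (⟨tau (tv a), tau_C0 (tv_C0 ha)⟩ : ↥C0) = ⟨_, e0_le (eltW_mem _)⟩ * ⟨tv a, tv_C0 ha⟩ from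
        Subtype.ext h1, map_mul, (mem_e0_iff hF hp φ hφs hφk (e0_le (eltW_mem _))).2 (eltW_mem _), one_mul]
    | one => exact ((map_one ψ).trans (map_one φ).symm : ψ 1 = φ 1)
    | mul x y hx hy ihx ihy =>
      exact ((map_mul ψ ⟨x, hs_le hx⟩ ⟨y, hs_le hy⟩).trans (by rw [ihx, ihy])).trans
        (map_mul φ ⟨x, hs_le hx⟩ ⟨y, hs_le hy⟩).symm
    | inv x hx ihx =>
      exact ((map_inv ψ ⟨x, hs_le hx⟩).trans (by rw [ihx])).trans (map_inv φ ⟨x, hs_le hx⟩).symm
  have he : ψ ⟨c, hc⟩ = φ ⟨c, hc⟩ := by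
    refine MulEquiv.ext fun p => mulAut_conj_injective hcen ?_
    obtain ⟨h, hh, e⟩ := inner_le_image hF hp φ hφs hφk p
    have hh' : c * h * c⁻¹ ∈ Hs := hs_conj hp hc hh
    have h2 : ψ (⟨c, hc⟩ * ⟨h, hs_le hh⟩ * ⟨c, hc⟩⁻¹) = φ (⟨c, hc⟩ * ⟨h, hs_le hh⟩ * ⟨c, hc⟩⁻¹) := hH _ hh'
    rw [map_mul, map_mul, map_inv, map_mul, map_mul, map_inv, hH _ hh, e, aut_conj, aut_conj] at h2
    exact h2
  refine (mem_e0_iff hF hp φ hφs hφk (mul_mem (tau_C0 hc) (inv_mem hc))).1 ?_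
  rw [show (⟨tau c * c⁻¹, mul_mem (tau_C0 hc) (inv_mem hc)⟩ : ↥C0) = ⟨tau c, tau_C0 hc⟩ * ⟨c, hc⟩⁻¹ from rfl,
    map_mul, map_inv, mul_inv_eq_one]
  exact he

/-- Elements acting on the kernel within the product of the pair. -/
def Stab : Subgroup Gp where
  carrier := {c | c ∈ C0 ∧ ∀ e ∈ E0, ∃ b, c * e * c⁻¹ = e * zp jg b}
  one_mem' := ⟨one_mem _, fun e _ => ⟨false, by simp [zp]⟩⟩
  mul_mem' := by
    rintro x y ⟨hx, hx'⟩ ⟨hy, hy'⟩
    refine ⟨mul_mem hx hy, fun e he => ?_⟩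
    obtain ⟨b, hb⟩ := hy' e he
    obtain ⟨a, ha⟩ := hx' e he
    refine ⟨xor a b, ?_⟩
    have hz : x * zp jg b * x⁻¹ = zp jg b := by
      cases b
      · simp [zp]
      · show x * jg * x⁻¹ = jg
        rw [mem_C0.1 hx, mul_inv_cancel_right]
    rw [show x * y * e * (x * y)⁻¹ = x * (y * e * y⁻¹) * x⁻¹ by group, hb,
      show x * (e * zp jg b) * x⁻¹ = (x * e * x⁻¹) * (x * zp jg b * x⁻¹) by group, ha, hz]
    cases a <;> cases b <;> simp [zp, mul_assoc, jg_sq]
  inv_mem' := by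
    rintro x ⟨hx, hx'⟩
    refine ⟨inv_mem hx, fun e he => ?_⟩
    obtain ⟨a, ha⟩ := hx' e he
    refine ⟨a, mul_left_cancel (a := x) (mul_right_cancel (b := x⁻¹) ?_)⟩
    rw [show x * (x⁻¹ * e * x⁻¹⁻¹) * x⁻¹ = e by group]
    have hz : x * zp jg a * x⁻¹ = zp jg a := by
      cases a
      · simp [zp]
      · show x * jg * x⁻¹ = jg
        rw [mem_C0.1 hx, mul_inv_cancel_right]
    rw [show x * (e * zp jg a) * x⁻¹ = (x * e * x⁻¹) * (x * zp jg a * x⁻¹) by group, ha, hz]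
    cases a <;> simp [zp, mul_assoc, jg_sq]

include hF hp hφs hφk in
theorem stab_le : Stab ≤ E0 := by
  obtain ⟨hS, hc, hcard⟩ := psu4_facts hF
  have hES : E0 ≤ Stab := fun e he => ⟨e0_le he, fun f hf => e0_comm he hf⟩
  rcases eq_bot_or_inner_le hc ((Stab.subgroupOf C0).map φ) (fun q k hk => by
    obtain ⟨x, hx, rfl⟩ := hk
    obtain ⟨y, hy⟩ := hφs (MulAut.conj q)
    rw [← hy, ← map_mul, ← map_inv, ← map_mul]
    refine ⟨_, ⟨(y * x * y⁻¹).2, fun e he => ?_⟩, rfl⟩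
    have he' : (y : Gp)⁻¹ * e * y ∈ E0 := by
      simpa using e0_conj hF hp φ hφs hφk (inv_mem y.2) he
    obtain ⟨b, hb⟩ := hx.2 _ he'
    simp only [Subgroup.coe_subtype] at hb
    refine ⟨b, ?_⟩
    have hz : (y : Gp) * zp jg b * (y : Gp)⁻¹ = zp jg b := by
      cases b
      · simp [zp]
      · show (y : Gp) * jg * (y : Gp)⁻¹ = jg
        rw [mem_C0.1 y.2, mul_inv_cancel_right]
    calc (y : Gp) * x * (y : Gp)⁻¹ * e * ((y : Gp) * x * (y : Gp)⁻¹)⁻¹
        = y * ((x : Gp) * ((y : Gp)⁻¹ * e * y) * (x : Gp)⁻¹) * (y : Gp)⁻¹ := by group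
      _ = y * ((y : Gp)⁻¹ * e * y * zp jg b) * (y : Gp)⁻¹ := by rw [hb]
      _ = e * (y * zp jg b * (y : Gp)⁻¹) := by group
      _ = e * zp jg b := by rw [hz]) with h | h
  · intro x hx
    refine (mem_e0_iff hF hp φ hφs hφk hx.1).1 ?_
    have : φ ⟨x, hx.1⟩ ∈ (Stab.subgroupOf C0).map φ := ⟨_, hx, rfl⟩
    rwa [h, Subgroup.mem_bot] at this
  · exfalso
    have hidx : (MulAut.conj : Cfsg.PSU 4 F 2 →* MulAut (Cfsg.PSU 4 F 2)).range.index ≤ 2 := by
      have h1 := (MulAut.conj : Cfsg.PSU 4 F 2 →* MulAut (Cfsg.PSU 4 F 2)).range.card_mul_index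
      have h2 := CfsgLib.Spor.Tri.Level.aut_psu4_le (F := F) hF
      rw [card_inner hc, hcard] at h1
      omega
    have hsq : ∀ a : MulAut (Cfsg.PSU 4 F 2), a * a ∈ (MulAut.conj : Cfsg.PSU 4 F 2 →* _).range := by
      intro a
      rcases Nat.lt_or_ge (MulAut.conj : Cfsg.PSU 4 F 2 →* MulAut (Cfsg.PSU 4 F 2)).range.index 2 with h0 | h0
      · have h1 := (MulAut.conj : Cfsg.PSU 4 F 2 →* MulAut (Cfsg.PSU 4 F 2)).range.card_mul_index
        have hpos : 0 < Nat.card (MulAut (Cfsg.PSU 4 F 2)) := by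
          haveI : Finite (MulAut (Cfsg.PSU 4 F 2)) :=
            Finite.of_injective (fun f : MulAut (Cfsg.PSU 4 F 2) => (f : Cfsg.PSU 4 F 2 → Cfsg.PSU 4 F 2))
              fun x y r => MulEquiv.ext (congrFun r)
          exact Nat.card_pos
        rw [← h1] at hpos
        have := Nat.pos_of_mul_pos_left hpos
        rw [Subgroup.index_eq_one.1 (by omega : (MulAut.conj : Cfsg.PSU 4 F 2 →* _).range.index = 1)]
        trivial
      · exact Subgroup.mul_self_mem_of_index_two (by omega) a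
    have hw : φ ⟨wv, hs_le wv_mem⟩ ∈ (Stab.subgroupOf C0).map φ := h (by
      have h3 : φ ⟨wv, hs_le wv_mem⟩ * φ ⟨wv, hs_le wv_mem⟩ * (φ ⟨wv, hs_le wv_mem⟩ * φ ⟨wv, hs_le wv_mem⟩) =
          φ ⟨wv, hs_le wv_mem⟩ := by
        rw [← map_mul, ← map_mul]
        refine congrArg φ (Subtype.ext ?_)
        show wv * wv * (wv * wv) = wv
        rw [show wv * wv * (wv * wv) = wv ^ 3 * wv by simp [pow_succ, mul_assoc], wv_pow.1, one_mul]
      rw [← h3]
      exact hsq _)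
    obtain ⟨s, hs, hse⟩ := hw
    have hsw : (s : Gp)⁻¹ * wv ∈ E0 :=
      (mem_e0_iff hF hp φ hφs hφk (mul_mem (inv_mem s.2) (hs_le wv_mem))).1 (by
        rw [show (⟨(s : Gp)⁻¹ * wv, mul_mem (inv_mem s.2) (hs_le wv_mem)⟩ : ↥C0) = s⁻¹ * ⟨wv, hs_le wv_mem⟩ from rfl,
          map_mul, map_inv, hse, inv_mul_cancel])
    have hwS : wv ∈ Stab := by
      have := mul_mem (show (s : Gp) ∈ Stab from hs) (hES hsw)
      rwa [mul_inv_cancel_left] at this
    obtain ⟨b, hb⟩ := hwS.2 _ (eW_mem _ witness_ok.2.2.1)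
    rw [mul_inv_eq_iff_eq_mul] at hb
    cases b
    · refine ne_of_differ witness_ok.2.2.2.2.2.1 ?_
      rw [el_app, el_app]
      simpa [zp, wv] using hb
    · refine ne_of_differ witness_ok.2.2.2.2.2.2 ?_
      rw [el_app, el_app, el_app]
      simpa [zp, wv, jg, mul_assoc] using hb

end

end CfsgLib.Spor.PairAut
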