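/-
The centralizer of the product of the pair in the automorphism group.
-/
import Cfsg.Agent.Lib.Spor.PairAut.Above
import Cfsg.Agent.Lib.Spor.LargeExtraInvolution
import Cfsg.Agent.Lib.Invol.PConstrained
import Cfsg.Agent.Lib.Coprime.Fitting

set_option autoImplicit false

namespace CfsgLib.Spor.PairAut

open CfsgLib.Spor.TC CfsgLib.Spor.Fi22 CfsgLib.Spor.Fi22Out MulAction

noncomputable section

attribute [local instance] actionH

instance finiteAut : Finite (MulAut Gp) :=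
  Finite.of_injective (fun f : MulAut Gp => (f : Gp → Gp)) fun x y r => MulEquiv.ext (congrFun r)

/-- The centralizer of the inner automorphism of the product. -/
abbrev CA : Subgroup (MulAut Gp) := Subgroup.centralizer ({MulAut.conj jg} : Set (MulAut Gp))

theorem mem_CA {x : MulAut Gp} : x ∈ CA ↔ x jg = jg := by
  rw [Subgroup.mem_centralizer_singleton_iff, ← mul_inv_eq_iff_eq_mul, aut_conj]
  exact ⟨fun h => conj_inj h, fun h => by rw [h]⟩

theorem tau_CA : tau ∈ CA := mem_CA.2 tau_jg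

theorem conj_CA {c : Gp} (hc : c ∈ C0) : MulAut.conj c ∈ CA := by
  rw [mem_CA, MulAut.conj_apply, mem_C0.1 hc, mul_inv_cancel_right]

theorem ca_cases {x : MulAut Gp} (hx : x ∈ CA) :
    ∃ c ∈ C0, x = MulAut.conj c ∨ x = MulAut.conj c * tau := by
  have hC : ∀ c : Gp, c * jg * c⁻¹ = jg → c ∈ C0 := fun c h => mem_C0.2 (mul_inv_eq_iff_eq_mul.1 h)
  obtain ⟨g, h | h⟩ := classify x
  · have e : x = MulAut.conj g⁻¹ := by rw [map_inv]; exact eq_inv_of_mul_eq_one_right h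
    refine ⟨g⁻¹, hC _ ?_, Or.inl e⟩
    have := mem_CA.1 hx
    rwa [e, MulAut.conj_apply] at this
  · have e : x = MulAut.conj (g⁻¹ * (el uW)⁻¹) * tau := by
      rw [map_mul, map_inv, map_inv, tau, ← h]; group
    refine ⟨g⁻¹ * (el uW)⁻¹, hC _ ?_, Or.inr e⟩
    have := mem_CA.1 hx
    rwa [e, MulAut.mul_apply, tau_jg, MulAut.conj_apply] at this

theorem qp_le : Qp ≤ CA := by
  intro x hx
  obtain ⟨e, he, h | h⟩ := mem_qp_cases hx
  · exact h ▸ conj_CA (e0_le he)
  · exact h ▸ mul_mem (conj_CA (e0_le he)) tau_CA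

theorem z_centre : (Subgroup.center Qp).map Qp.subtype = Subgroup.zpowers (MulAut.conj jg) := by
  ext x
  constructor
  · rintro ⟨y, hy, rfl⟩
    rcases gens_data.centre tab_nondeg y.2 (fun k =>
      (congrArg Subtype.val (Subgroup.mem_center_iff.1 hy ⟨_, Gens.gen_mem k⟩)).symm) with h | h
    · rw [show Qp.subtype y = 1 from h]; exact one_mem _
    · rw [show Qp.subtype y = MulAut.conj jg from h]; exact Subgroup.mem_zpowers _
  · intro hx
    refine (Subgroup.zpowers_le.2 ?_) hx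
    exact ⟨⟨_, Gens.z_mem⟩, Subgroup.mem_center_iff.2 fun q => Subtype.ext (gens_data.z_comm q.2).symm, rfl⟩

variable {F : Type} [Field F] [Fintype F] (hF : Fintype.card F = 4) (hp : PairSplit)
  (φ : ↥C0 →* MulAut (Cfsg.PSU 4 F 2)) (hφs : Function.Surjective φ) (hφk : Nat.card φ.ker = 1024)

include hF hp hφs hφk in
theorem qp_normal {x q : MulAut Gp} (hx : x ∈ CA) (hq : q ∈ Qp) : x * q * x⁻¹ ∈ Qp := by
  have key : ∀ c ∈ C0, ∀ r ∈ Qp, MulAut.conj c * r * (MulAut.conj c)⁻¹ ∈ Qp := by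
    intro c hc r hr
    have h1 : ∀ e ∈ E0, MulAut.conj c * MulAut.conj e * (MulAut.conj c)⁻¹ ∈ Qp := fun e he => by
      rw [← map_inv, ← map_mul, ← map_mul]
      exact conj_mem_qp (e0_conj hF hp φ hφs hφk hc he)
    obtain ⟨e, he, rfl | rfl⟩ := mem_qp_cases hr
    · exact h1 e he
    · rw [show MulAut.conj c * (MulAut.conj e * tau) * (MulAut.conj c)⁻¹ =
        MulAut.conj c * MulAut.conj e * (MulAut.conj c)⁻¹ * (MulAut.conj c * tau * (MulAut.conj c)⁻¹) by group]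
      refine mul_mem (h1 e he) ?_
      rw [← map_inv, mul_assoc, conj_mul_tau, ← mul_assoc, ← map_mul]
      refine mul_mem (conj_mem_qp ?_) tau_mem_qp
      have := inv_mem (tau_trivial hF hp φ hφs hφk hc)
      rw [mul_inv_rev, inv_inv, ← map_inv] at this
      exact this
  obtain ⟨c, hc, rfl | rfl⟩ := ca_cases hx
  · exact key c hc q hq
  · rw [show MulAut.conj c * tau * q * (MulAut.conj c * tau)⁻¹ =
      MulAut.conj c * (tau * q * tau⁻¹) * (MulAut.conj c)⁻¹ by group]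
    exact key c hc _ (mul_mem (mul_mem tau_mem_qp hq) (inv_mem tau_mem_qp))

include hF hp hφs hφk in
theorem centralizer_qp : Subgroup.centralizer (Qp : Set (MulAut Gp)) ≤ Qp := by
  intro x hx
  have hc : ∀ q ∈ Qp, q * x = x * q := Subgroup.mem_centralizer_iff.1 hx
  have hxCA : x ∈ CA := Subgroup.mem_centralizer_singleton_iff.2 (hc _ Gens.z_mem).symm
  have he : ∀ e ∈ E0, x e = e := fun e he => conj_inj (by
    rw [← aut_conj x e, ← hc _ (conj_mem_qp he), mul_inv_cancel_right])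
  obtain ⟨c, hcC, rfl | rfl⟩ := ca_cases hxCA
  · refine conj_mem_qp (stab_le hF hp φ hφs hφk ⟨hcC, fun e hee => ⟨false, ?_⟩⟩)
    have := he e hee
    rw [MulAut.conj_apply] at this
    simpa [zp] using this
  · refine mul_mem (conj_mem_qp (stab_le hF hp φ hφs hφk ⟨hcC, fun e hee => ?_⟩)) tau_mem_qp
    obtain ⟨b, hb⟩ := tau_comm hee
    refine ⟨b, ?_⟩
    have := he _ (tau_mem hee)
    rw [MulAut.mul_apply, tau_tau, MulAut.conj_apply] at this
    rw [this, hb]

include hF hp hφs hφk in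
theorem qs_normal : (Qp.subgroupOf CA).Normal :=
  ⟨fun q hq x => Subgroup.mem_subgroupOf.2 (qp_normal hF hp φ hφs hφk x.2 hq)⟩

include hF hp hφs hφk in
theorem fitting_eq : (Cfsg.generalizedFittingSubgroup ↥CA).map CA.subtype = Qp := by
  haveI : Fact (Nat.Prime 2) := ⟨Nat.prime_two⟩
  haveI hN := qs_normal hF hp φ hφs hφk
  obtain ⟨hS, hc, hcard⟩ := psu4_facts hF
  have hQ2 : IsPGroup 2 (Qp.subgroupOf CA) :=
    (IsPGroup.of_card qp_card).comap_of_injective _ (Subgroup.subtype_injective _)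
  have hle : Qp.subgroupOf CA ≤ Cfsg.pCore 2 ↥CA := CfsgLib.Coprime.le_pCore hQ2
  have hcore : Cfsg.pCore 2 ↥CA ≤ Qp.subgroupOf CA := by
    haveI hcn := CfsgLib.Coprime.pCore_normal' (G := ↥CA) 2
    let ι : ↥C0 →* ↥CA := MonoidHom.mk' (fun c => ⟨MulAut.conj (c : Gp), conj_CA c.2⟩) fun a b =>
      Subtype.ext (map_mul _ _ _)
    have hι : Function.Injective ι := fun a b h => Subtype.ext (conj_inj (congrArg Subtype.val h))
    haveI hpn : (((Cfsg.pCore 2 ↥CA).comap ι).map φ).Normal := (hcn.comap ι).map φ hφs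
    have hp2 : IsPGroup 2 (((Cfsg.pCore 2 ↥CA).comap ι).map φ) :=
      ((CfsgLib.Coprime.pCore_isPGroup (G := ↥CA) 2).comap_of_injective ι hι).map φ
    have hbot : ((Cfsg.pCore 2 ↥CA).comap ι).map φ = ⊥ := by
      refine (eq_bot_or_inner_le hc _ fun q k hk => hpn.conj_mem k hk _).resolve_right fun h => ?_
      have h1 := Subgroup.card_dvd_of_le h
      obtain ⟨n, hn⟩ := hp2.exists_card_eq
      rw [card_inner hc, hcard, hn] at h1
      exact absurd (Nat.prime_three.dvd_of_dvd_pow (dvd_trans (by norm_num) h1)) (by norm_num)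
    have key : ∀ c (hcC : c ∈ C0), (⟨MulAut.conj c, conj_CA hcC⟩ : ↥CA) ∈ Cfsg.pCore 2 ↥CA → c ∈ E0 := by
      intro c hcC h
      refine (mem_e0_iff hF hp φ hφs hφk hcC).1 ?_
      have h2 : φ ⟨c, hcC⟩ ∈ ((Cfsg.pCore 2 ↥CA).comap ι).map φ := ⟨⟨c, hcC⟩, h, rfl⟩
      rwa [hbot, Subgroup.mem_bot] at h2
    intro x hx
    rw [Subgroup.mem_subgroupOf]
    obtain ⟨c, hcC, h | h⟩ := ca_cases x.2
    · rw [h]
      refine conj_mem_qp (key c hcC ?_)
      rwa [show (⟨MulAut.conj c, conj_CA hcC⟩ : ↥CA) = x from Subtype.ext h.symm]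
    · rw [h]
      refine mul_mem (conj_mem_qp (key c hcC ?_)) tau_mem_qp
      have ht : (⟨tau, tau_CA⟩ : ↥CA) ∈ Cfsg.pCore 2 ↥CA := hle (Subgroup.mem_subgroupOf.2 tau_mem_qp)
      rw [show (⟨MulAut.conj c, conj_CA hcC⟩ : ↥CA) = x * (⟨tau, tau_CA⟩ : ↥CA)⁻¹ from
        Subtype.ext (eq_mul_inv_of_mul_eq h.symm)]
      exact mul_mem hx (inv_mem ht)
  have hclean : CfsgLib.Invol.PClean 2 ↥CA := by
    refine CfsgLib.Invol.pClean_of_centralizer_le ?_
    intro x hx
    refine hle (Subgroup.mem_subgroupOf.2 (centralizer_qp hF hp φ hφs hφk (Subgroup.mem_centralizer_iff.2 fun q hq => ?_)))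
    exact congrArg Subtype.val (Subgroup.mem_centralizer_iff.1 hx (⟨q, qp_le hq⟩ : ↥CA)
      (hle (Subgroup.mem_subgroupOf.2 hq)))
  have hF2 : IsPGroup 2 (Cfsg.generalizedFittingSubgroup ↥CA) :=
    CfsgLib.Invol.isPGroup_generalizedFitting_iff.2 hclean
  haveI := CfsgLib.Coprime.generalizedFitting_normal (G := ↥CA)
  have he : Cfsg.generalizedFittingSubgroup ↥CA = Qp.subgroupOf CA :=
    le_antisymm ((CfsgLib.Coprime.le_pCore hF2).trans hcore)
      (hle.trans ((CfsgLib.Coprime.pCore_le_fitting 2).trans le_sup_right))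
  rw [he, Subgroup.map_subgroupOf_eq_of_le qp_le]

include hF hp hφs hφk in
theorem qp_large : Cfsg.IsLargeExtraspecial Qp := by
  refine CfsgLib.Spor.LargeQ.large_of_involution Qp qp_extraspecial ?_ ?_ (MulAut.conj (el (eltW twist.1)))
    (conj_mem_qp (eltW_mem _)) ?_ ?_ ?_
  · refine le_antisymm (fun x hx => ?_) ?_
    · have hq := centralizer_qp hF hp φ hφs hφk hx
      exact ⟨⟨x, hq⟩, Subgroup.mem_center_iff.2 fun q => Subtype.ext (Subgroup.mem_centralizer_iff.1 hx q q.2), rfl⟩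
    · rintro _ ⟨y, hy, rfl⟩
      exact Subgroup.mem_centralizer_iff.2 fun q hq => congrArg Subtype.val (Subgroup.mem_center_iff.1 hy ⟨q, hq⟩)
  · intro x hx
    rw [z_centre] at hx
    have hxCA : x ∈ CA := Subgroup.mem_centralizer_singleton_iff.2
      (Subgroup.mem_centralizer_iff.1 hx _ (Subgroup.mem_zpowers _)).symm
    refine Subgroup.mem_normalizer_iff.2 fun q => ⟨fun hq => qp_normal hF hp φ hφs hφk hxCA hq, fun hq => ?_⟩
    have := qp_normal hF hp φ hφs hφk (inv_mem hxCA) hq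
    rwa [show x⁻¹ * (x * q * x⁻¹) * x⁻¹⁻¹ = q by group] at this
  · intro h
    rw [z_centre] at h
    obtain ⟨k, hk⟩ := Subgroup.mem_zpowers_iff.1 h
    have hz2 : (MulAut.conj jg) ^ (2 : ℤ) = 1 := by rw [zpow_two, ← map_mul, jg_sq, map_one]
    rcases Int.even_or_odd k with ⟨i, rfl⟩ | ⟨i, rfl⟩
    · rw [← two_mul, zpow_mul, hz2, one_zpow] at hk
      exact ne_of_differ twist_ok.2.1 (conj_inj (hk.symm.trans (map_one _).symm))
    · rw [zpow_add_one, zpow_mul, hz2, one_zpow, one_mul] at hk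
      exact ne_of_differ twist_ok.2.2.1 (conj_inj hk.symm)
  · haveI : Fact (Nat.Prime 2) := ⟨Nat.prime_two⟩
    refine orderOf_eq_prime ?_ fun h => ne_of_differ twist_ok.2.1 (center_gp h)
    have h := eq_of_same twist_ok.1
    rw [el_app, el_app, el_reverse PairAut.words_ok.2.2.2.2.1, ← jg] at h
    rw [pow_two, ← map_mul, ← h, show el twist.2.1 * jg * (el twist.2.1)⁻¹ * (el twist.2.1 * jg * (el twist.2.1)⁻¹) =
      el twist.2.1 * (jg * jg) * (el twist.2.1)⁻¹ by group, jg_sq, mul_one, mul_inv_cancel, map_one]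
  · haveI : Fact (Nat.Prime 2) := ⟨Nat.prime_two⟩
    have h := eq_of_same twist_ok.1
    have h' := eq_of_same twist_ok.2.2.2
    rw [el_app, el_app, el_reverse PairAut.words_ok.2.2.2.2.1, ← jg] at h h'
    set γ := MulAut.conj (el twist.2.1) with hγ
    set Cb := Subgroup.centralizer ({MulAut.conj (el (eltW twist.1))} : Set (MulAut Gp))
    have hb : MulAut.conj (el (eltW twist.1)) = γ * MulAut.conj jg * γ⁻¹ := by
      rw [hγ, ← map_inv, ← map_mul, ← map_mul, h]
    have hmem : ∀ x, x ∈ Cb ↔ γ⁻¹ * x * γ ∈ CA := fun x => by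
      rw [Subgroup.mem_centralizer_singleton_iff, Subgroup.mem_centralizer_singleton_iff, hb]
      constructor <;> intro e
      · rw [show γ⁻¹ * x * γ * MulAut.conj jg = γ⁻¹ * (x * (γ * MulAut.conj jg * γ⁻¹)) * γ by group, e]
        group
      · rw [show x * (γ * MulAut.conj jg * γ⁻¹) = γ * (γ⁻¹ * x * γ * MulAut.conj jg) * γ⁻¹ by group, e]
        group
    let Q' : Subgroup (MulAut Gp) := Qp.map (MulAut.conj γ).toMonoidHom
    have hQ' : ∀ x, x ∈ Q' ↔ γ⁻¹ * x * γ ∈ Qp := fun x => by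
      rw [Subgroup.mem_map_equiv]; rfl
    haveI hN : (Q'.subgroupOf Cb).Normal := ⟨fun q hq x => by
      rw [Subgroup.mem_subgroupOf, hQ'] at hq ⊢
      have := qp_normal hF hp φ hφs hφk ((hmem _).1 x.2) hq
      rw [show γ⁻¹ * (x : MulAut Gp) * γ * (γ⁻¹ * (q : MulAut Gp) * γ) * (γ⁻¹ * (x : MulAut Gp) * γ)⁻¹ =
        γ⁻¹ * ((x : MulAut Gp) * q * (x : MulAut Gp)⁻¹) * γ by group] at this
      exact this⟩
    have hQ2 : IsPGroup 2 (Q'.subgroupOf Cb) :=
      ((IsPGroup.of_card qp_card).map (MulAut.conj γ).toMonoidHom).comap_of_injective _ (Subgroup.subtype_injective _)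
    intro x hx
    rw [z_centre] at hx
    refine (Subgroup.zpowers_le.2 ?_) hx
    have hzq : MulAut.conj jg ∈ Q' := by
      rw [hQ', hγ, ← map_inv, ← map_mul, ← map_mul, h']
      exact conj_mem_qp (eltW_mem _)
    have hzC : MulAut.conj jg ∈ Cb := (hmem _).2 (qp_le ((hQ' _).1 hzq))
    exact ⟨⟨_, hzC⟩, CfsgLib.Coprime.le_pCore hQ2 (Subgroup.mem_subgroupOf.2 hzq), rfl⟩

include hF hp hφs hφk in
/-- The centralizer in the automorphism group of the model. -/
theorem model_structure : Cfsg.IsLargeExtraspecial Qp ∧ Nat.card Qp = 2 ^ 11 ∧ Qp ≤ CA ∧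
    (Cfsg.generalizedFittingSubgroup ↥CA).map CA.subtype = Qp ∧
    ∃ (_ : (Qp.subgroupOf CA).Normal), Nonempty (↥CA ⧸ Qp.subgroupOf CA ≃* MulAut (Cfsg.PSU 4 F 2)) := by
  haveI hN := qs_normal hF hp φ hφs hφk
  refine ⟨qp_large hF hp φ hφs hφk, qp_card, qp_le, fitting_eq hF hp φ hφs hφk, hN, ?_⟩
  let ι : ↥C0 →* ↥CA := MonoidHom.mk' (fun c => ⟨MulAut.conj (c : Gp), conj_CA c.2⟩) fun a b =>
    Subtype.ext (map_mul _ _ _)
  let Φ : ↥C0 →* ↥CA ⧸ Qp.subgroupOf CA := (QuotientGroup.mk' _).comp ι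
  have hΦs : Function.Surjective Φ := by
    intro y
    obtain ⟨x, rfl⟩ := QuotientGroup.mk'_surjective _ y
    obtain ⟨c, hc, h | h⟩ := ca_cases x.2
    · exact ⟨⟨c, hc⟩, congrArg (QuotientGroup.mk' (Qp.subgroupOf CA)) (Subtype.ext h.symm : ι ⟨c, hc⟩ = x)⟩
    · refine ⟨⟨c, hc⟩, (QuotientGroup.eq).2 (Subgroup.mem_subgroupOf.2 ?_)⟩
      show (MulAut.conj c)⁻¹ * (x : MulAut Gp) ∈ Qp
      rw [h, inv_mul_cancel_left]
      exact tau_mem_qp
  have hk : Φ.ker = φ.ker := by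
    rw [← e0_eq_ker hF hp φ hφs hφk]
    ext c
    rw [MonoidHom.mem_ker, MonoidHom.comp_apply]
    refine (QuotientGroup.eq_one_iff _).trans (Subgroup.mem_subgroupOf.trans ?_)
    exact conj_mem_qp_iff.trans Subgroup.mem_subgroupOf.symm
  exact ⟨((QuotientGroup.quotientKerEquivOfSurjective Φ hΦs).symm.trans (QuotientGroup.quotientMulEquivOfEq hk)).trans
    (QuotientGroup.quotientKerEquivOfSurjective φ hφs)⟩

end

end CfsgLib.Spor.PairAut
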