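/-
The centralizer of the inner automorphism of a product of two commuting transpositions, in a group of type M(22).
-/
import Cfsg.Agent.Lib.Spor.PairAut.Main
import Cfsg.Agent.Lib.Spor.Tri.Base22Local
import Cfsg.Agent.Lib.Spor.Tri.PairStructure

set_option autoImplicit false

namespace CfsgLib.Spor.PairAut

open CfsgLib.Spor.TC CfsgLib.Spor.Fi22 CfsgLib.Spor.Fi22Out CfsgLib.Spor.Tri

noncomputable section

attribute [local instance] actionH

theorem subgroupOf_quotient_congr {A B : Type*} [Group A] [Group B] (E : A ≃* B) {C Q : Subgroup A} {C' Q' : Subgroup B}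
    (hC : C.map E.toMonoidHom = C') (hQ : Q.map E.toMonoidHom = Q') [(Q.subgroupOf C).Normal]
    [(Q'.subgroupOf C').Normal] : Nonempty (↥C ⧸ Q.subgroupOf C ≃* ↥C' ⧸ Q'.subgroupOf C') := by
  subst hC hQ
  refine ⟨QuotientGroup.congr _ _ (C.equivMapOfInjective E.toMonoidHom E.injective) ?_⟩
  ext y
  rw [Subgroup.mem_subgroupOf]
  constructor
  · rintro ⟨x, hx, rfl⟩
    exact ⟨x, hx, rfl⟩
  · rintro ⟨x, hx, hxy⟩
    obtain ⟨z, rfl⟩ := (C.equivMapOfInjective E.toMonoidHom E.injective).surjective y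
    refine ⟨z, ?_, rfl⟩
    have e : x = (z : A) := E.injective hxy
    exact (e ▸ hx : (z : A) ∈ Q)

theorem map_centralizer_singleton {A B : Type*} [Group A] [Group B] (E : A ≃* B) (a : A) :
    (Subgroup.centralizer ({a} : Set A)).map E.toMonoidHom = Subgroup.centralizer ({E a} : Set B) := by
  ext y
  obtain ⟨x, rfl⟩ := E.surjective y
  rw [Subgroup.mem_map_equiv, E.symm_apply_apply, Subgroup.mem_centralizer_singleton_iff,
    Subgroup.mem_centralizer_singleton_iff, ← map_mul, ← map_mul]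
  exact E.injective.eq_iff.symm

theorem pair_aut_structure {G : Type*} [Group G] [Finite G] {D : Set G} (hD : Cfsg.IsThreeTranspositionGroup D)
    (hprim : Cfsg.IsPrimitiveUnderConj D) (h22 : Cfsg.IsOfTypeM22 G D) {d₁ d₂ : G} (h₁ : d₁ ∈ D) (h₂ : d₂ ∈ D)
    (hne : d₁ ≠ d₂) (hc : Commute d₁ d₂) (j : MulAut G) (hj : j = MulAut.conj (d₁ * d₂)) (Q : Subgroup (MulAut G))
    (hQ : Q = (Cfsg.generalizedFittingSubgroup ↥(Subgroup.centralizer ({j} : Set (MulAut G)))).map
      (Subgroup.centralizer ({j} : Set (MulAut G))).subtype) :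
    Cfsg.IsLargeExtraspecial Q ∧ Nat.card Q = 2 ^ 11 ∧ Q ≤ Subgroup.centralizer ({j} : Set (MulAut G)) ∧
      ∃ (_ : (Q.subgroupOf (Subgroup.centralizer ({j} : Set (MulAut G)))).Normal) (F : Type) (_ : Field F)
        (_ : Fintype F), Fintype.card F = 4 ∧
        Nonempty (↥(Subgroup.centralizer ({j} : Set (MulAut G))) ⧸
          Q.subgroupOf (Subgroup.centralizer ({j} : Set (MulAut G))) ≃* MulAut (Cfsg.PSU 4 F 2)) := by
  have h := Level.hyp_of_prim hD hprim
  obtain ⟨e, he⟩ := Fi22Model.exists_iso hD hprim h22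
  have hmem : ∀ p : Pt, e (trp p) ∈ D := fun p => he ▸ ⟨_, Fi22Model.trp_mem p, rfl⟩
  have hperp : e (trp pp) ∈ perp D (e (trp pt0)) :=
    ⟨hmem pp, fun r => pp_ne (trp_inj (e.injective r)), (trp_pt0 ▸ comm_pair : Commute (trp pt0) (trp pp)).map e.toMonoidHom⟩
  obtain ⟨g, hg⟩ := h.transitive _ (hmem pt0) d₁ h₁
  have hg2 : g⁻¹ * d₂ * g ∈ perp D (e (trp pt0)) := by
    have e1 : g⁻¹ * d₁ * g = e (trp pt0) := by rw [← hg]; group
    refine ⟨by simpa using h.conj g⁻¹ _ h₂, fun r => hne ?_, ?_⟩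
    · rw [← hg, ← r]; group
    · rw [← e1]
      simpa using (Commute.conj_iff g⁻¹).2 hc
  obtain ⟨q, hq1, hq2⟩ := Base22.perp_trans h hprim h22 (hmem pt0) hperp hg2
  let e' : Gp ≃* G := e.trans (MulAut.conj (g * q))
  have he1 : e' zee = d₁ := by
    rw [← trp_pt0]
    show g * q * e (trp pt0) * (g * q)⁻¹ = d₁
    calc g * q * e (trp pt0) * (g * q)⁻¹ = g * (q * e (trp pt0) * q⁻¹) * g⁻¹ := by group
      _ = d₁ := by rw [← hq1.eq, mul_inv_cancel_right, hg]
  have he2 : e' (trp pp) = d₂ := by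
    show g * q * e (trp pp) * (g * q)⁻¹ = d₂
    calc g * q * e (trp pp) * (g * q)⁻¹ = g * (q * e (trp pp) * q⁻¹) * g⁻¹ := by group
      _ = d₂ := by rw [hq2]; group
  have he3 : e' jg = d₁ * d₂ := by rw [jg_eq, map_mul, he1, he2]
  have hb : d₂ ∈ perp D d₁ := ⟨h₂, hne.symm, hc⟩
  obtain ⟨-, -, E, -, hEC, -, hEcard, -, -, -, hEN, F, hFf, hFt, hF, ⟨Φ⟩⟩ :=
    Level.pair_structure h hprim h22 h₁ hb
  have hsplit : PairSplit := by
    intro c hc'
    obtain ⟨d, W⟩ := Level.local22 h hprim h22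
    have hcc : e' c ∈ Subgroup.centralizer ({d₁ * d₂} : Set G) := by
      rw [Subgroup.mem_centralizer_singleton_iff, ← he3, ← map_mul, ← map_mul, mem_C0.1 hc']
    rcases Level.pair_cases h W.norel h₁ hb hcc with r | ⟨r1, r2⟩
    · obtain ⟨r1, r2⟩ : Commute (e' c) d₁ ∧ Commute (e' c) d₂ :=
        ⟨(Subgroup.mem_centralizer_iff.1 r d₁ (by simp)).symm, (Subgroup.mem_centralizer_iff.1 r d₂ (by simp)).symm⟩
      refine Or.inl ⟨e'.injective ?_, e'.injective ?_⟩
      · rw [map_mul, map_mul, map_inv, he1, r1.eq, mul_inv_cancel_right]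
      · rw [map_mul, map_mul, map_inv, he2, r2.eq, mul_inv_cancel_right]
    · refine Or.inr ⟨e'.injective ?_, e'.injective ?_⟩
      · rw [map_mul, map_mul, map_inv, he1, he2, r1]
      · rw [map_mul, map_mul, map_inv, he1, he2, r2]
  let k : ↥C0 ≃* ↥(Subgroup.centralizer ({d₁ * d₂} : Set G)) :=
    (C0.equivMapOfInjective e'.toMonoidHom e'.injective).trans
      (MulEquiv.subgroupCongr (by rw [map_centralizer_singleton, he3]))
  let φ : ↥C0 →* MulAut (Cfsg.PSU 4 F 2) :=
    (Φ.toMonoidHom.comp (QuotientGroup.mk' _)).comp k.toMonoidHom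
  have hφs : Function.Surjective φ :=
    (Φ.surjective.comp (QuotientGroup.mk'_surjective _)).comp k.surjective
  have hφk : Nat.card φ.ker = 1024 := by
    have hk : φ.ker = (E.subgroupOf (Subgroup.centralizer ({d₁ * d₂} : Set G))).comap k.toMonoidHom := by
      ext x
      rw [MonoidHom.mem_ker, Subgroup.mem_comap, ← QuotientGroup.eq_one_iff]
      exact Φ.map_eq_one_iff
    rw [hk, Subgroup.comap_equiv_eq_map_symm', Subgroup.card_map_of_injective k.symm.injective,
      Nat.card_congr (Subgroup.subgroupOfEquivOfLe hEC).toEquiv, hEcard]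
    norm_num
  obtain ⟨hL, hcard, hle, hfit, hN, ⟨I⟩⟩ := model_structure hF hsplit φ hφs hφk
  let A : MulAut Gp ≃* MulAut G := MulAut.congr e'
  have hA : A (MulAut.conj jg) = j := by
    rw [hj, ← he3]
    ext x
    simp [A, MulAut.congr, map_mul, map_inv]
  have hCA : CA.map A.toMonoidHom = Subgroup.centralizer ({j} : Set (MulAut G)) := by
    rw [map_centralizer_singleton, hA]
  subst hQ
  have hQA : Qp.map A.toMonoidHom = (Cfsg.generalizedFittingSubgroup
      ↥(Subgroup.centralizer ({j} : Set (MulAut G)))).map (Subgroup.centralizer ({j} : Set (MulAut G))).subtype := by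
    let m : ↥CA ≃* ↥(Subgroup.centralizer ({j} : Set (MulAut G))) :=
      (CA.equivMapOfInjective A.toMonoidHom A.injective).trans (MulEquiv.subgroupCongr hCA)
    rw [← hfit, ← CfsgLib.Coprime.map_generalizedFitting_equiv m, Subgroup.map_map, Subgroup.map_map]
    rfl
  have hN' : (((Cfsg.generalizedFittingSubgroup ↥(Subgroup.centralizer ({j} : Set (MulAut G)))).map
      (Subgroup.centralizer ({j} : Set (MulAut G))).subtype).subgroupOf
      (Subgroup.centralizer ({j} : Set (MulAut G)))).Normal := by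
    rw [Subgroup.subgroupOf, Subgroup.comap_map_eq_self_of_injective (Subgroup.subtype_injective _)]
    exact CfsgLib.Coprime.generalizedFitting_normal
  refine ⟨hQA ▸ large_map A hL, ?_, Subgroup.map_subtype_le _, hN', F, hFf, hFt, hF, ?_⟩
  · rw [← hQA, Subgroup.card_map_of_injective A.injective, hcard]
  · haveI := hN
    haveI := hN'
    obtain ⟨R⟩ := subgroupOf_quotient_congr A hCA hQA
    exact ⟨R.symm.trans I⟩

end

end CfsgLib.Spor.PairAut
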